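import Cfsg.Agent.Lib.H35.TCM11A.Data
import Cfsg.Agent.Lib.H35.TC
set_option autoImplicit false
set_option maxRecDepth 100000
set_option linter.all false
namespace H35.TCM11A
open H35.TC
/-- letters -/
inductive Lt | b | bi | d | di | e | ei
  deriving DecidableEq
/-- inverse letter -/
def inv : Lt → Lt
  | .b => .bi
  | .bi => .b
  | .d => .di
  | .di => .d
  | .e => .ei
  | .ei => .e
/-- table functions -/
noncomputable def T : Lt → ℕ → ℕ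
  | .b => T_b
  | .bi => T_bi
  | .d => T_d
  | .di => T_di
  | .e => T_e
  | .ei => T_ei
/-- decoding of letter codes -/
def lt : ℕ → Lt
  | 0 => .b
  | 1 => .bi
  | 2 => .d
  | 3 => .di
  | 4 => .e
  | _ => .ei
/-- Coxeter matrix (0: no relation) -/
def mm : Lt → Lt → ℕ
  | _, _ => 0
/-- extra relators `w ^ n` -/
def extra : List (List Lt × ℕ) := [
  ([.d], 5),
  ([.d, .bi, .di, .b, .b, .b], 1),
  ([.d, .d, .b, .di, .di, .b, .b], 1),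
  ([.bi, .e, .di, .ei, .b, .d, .d], 1),
  ([.di, .bi, .e, .e, .d, .bi, .di, .ei, .ei, .b, .d, .e], 1),
  ([.bi, .d, .ei, .bi, .di, .ei, .d, .b, .e, .di, .b, .e], 1),
  ([.b, .bi], 1),
  ([.bi, .b], 1),
  ([.d, .di], 1),
  ([.di, .d], 1),
  ([.e, .ei], 1),
  ([.ei, .e], 1)]
/-- relators -/
def rels : List (List Lt) := mkRels [] mm extra
/-- subgroup words -/
def subs : List (List Lt) := [
  [.b]]
noncomputable def dp_b_0 (j u : ℕ) : Bool :=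
  Bool.rec (motive := fun _ => Bool) (lF [T_d, T_bi, T_di, T_b, T_b] M (Nat.sub (T_b u) (Nat.mod (T_b u) M)) (Nat.mod (T_b u) M) u) (lF [T_di, T_bi, T_bi, T_bi, T_d] M (Nat.sub (T_b u) (Nat.mod (T_b u) M)) (Nat.mod (T_b u) M) u) (Nat.ble (nat_lit 6) j)
noncomputable def dp_b_1 (j u : ℕ) : Bool :=
  Bool.rec (motive := fun _ => Bool) (lF [T_b, T_b, T_d, T_bi, T_di] M (Nat.sub (T_b u) (Nat.mod (T_b u) M)) (Nat.mod (T_b u) M) u) (dp_b_0 j u) (Nat.ble (nat_lit 5) j)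
noncomputable def dp_b_2 (j u : ℕ) : Bool :=
  Bool.rec (motive := fun _ => Bool) (lF [T_di, T_di, T_bi, T_e, T_d, T_ei] M (Nat.sub (T_b u) (Nat.mod (T_b u) M)) (Nat.mod (T_b u) M) u) (lS MG [T_di, T_bi, T_bi, T_bi, T_d] M (Nat.sub (T_b u) (Nat.mod (T_b u) M)) (nat_lit 40) (Nat.mod (T_b u) M) u) (Nat.ble (nat_lit 8) j)
noncomputable def dp_b_3 (j u : ℕ) : Bool :=
  Bool.rec (motive := fun _ => Bool) (lF [T_b, T_d, T_bi, T_di, T_b] M (Nat.sub (T_b u) (Nat.mod (T_b u) M)) (Nat.mod (T_b u) M) u) (lF [T_d, T_d, T_bi, T_e, T_di, T_ei] M (Nat.sub (T_b u) (Nat.mod (T_b u) M)) (Nat.mod (T_b u) M) u) (Nat.ble (nat_lit 10) j)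
noncomputable def dp_b_4 (j u : ℕ) : Bool :=
  Bool.rec (motive := fun _ => Bool) (dp_b_2 j u) (dp_b_3 j u) (Nat.ble (nat_lit 9) j)
noncomputable def dp_b_5 (j u : ℕ) : Bool :=
  Bool.rec (motive := fun _ => Bool) (lS MG [T_b, T_b, T_d, T_bi, T_di] M (Nat.sub (T_b u) (Nat.mod (T_b u) M)) (nat_lit 40) (Nat.mod (T_b u) M) u) (lS MG [T_d, T_bi, T_di, T_b, T_b] M (Nat.sub (T_b u) (Nat.mod (T_b u) M)) (nat_lit 40) (Nat.mod (T_b u) M) u) (Nat.ble (nat_lit 12) j)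
noncomputable def dp_b_6 (j u : ℕ) : Bool :=
  Bool.rec (motive := fun _ => Bool) (lF [T_d, T_d, T_b, T_di, T_di, T_b] M (Nat.sub (T_b u) (Nat.mod (T_b u) M)) (Nat.mod (T_b u) M) u) (lF [T_b, T_d, T_d, T_b, T_di, T_di] M (Nat.sub (T_b u) (Nat.mod (T_b u) M)) (Nat.mod (T_b u) M) u) (Nat.ble (nat_lit 14) j)
noncomputable def dp_b_7 (j u : ℕ) : Bool :=
  Bool.rec (motive := fun _ => Bool) (dp_b_5 j u) (dp_b_6 j u) (Nat.ble (nat_lit 13) j)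
noncomputable def dp_b_8 (j u : ℕ) : Bool :=
  Bool.rec (motive := fun _ => Bool) (lF [T_di, T_di, T_b, T_b, T_d, T_d] M (Nat.sub (T_b u) (Nat.mod (T_b u) M)) (Nat.mod (T_b u) M) u) (lF [T_e, T_bi, T_d, T_ei, T_bi, T_di, T_ei, T_d, T_b, T_e, T_di] M (Nat.sub (T_b u) (Nat.mod (T_b u) M)) (Nat.mod (T_b u) M) u) (Nat.ble (nat_lit 16) j)
noncomputable def dp_b_9 (j u : ℕ) : Bool :=
  Bool.rec (motive := fun _ => Bool) (lS MG [T_d, T_d, T_bi, T_e, T_di, T_ei] M (Nat.sub (T_b u) (Nat.mod (T_b u) M)) (nat_lit 40) (Nat.mod (T_b u) M) u) (lS MG [T_di, T_di, T_bi, T_e, T_d, T_ei] M (Nat.sub (T_b u) (Nat.mod (T_b u) M)) (nat_lit 40) (Nat.mod (T_b u) M) u) (Nat.ble (nat_lit 18) j)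
noncomputable def dp_b_10 (j u : ℕ) : Bool :=
  Bool.rec (motive := fun _ => Bool) (dp_b_8 j u) (dp_b_9 j u) (Nat.ble (nat_lit 17) j)
noncomputable def dp_b_11 (j u : ℕ) : Bool :=
  Bool.rec (motive := fun _ => Bool) (lS MG [T_e, T_di, T_b, T_ei, T_bi, T_d, T_ei, T_bi, T_di, T_e, T_d] M (Nat.sub (T_b u) (Nat.mod (T_b u) M)) (nat_lit 40) (Nat.mod (T_b u) M) u) (lF [T_d, T_ei, T_di, T_bi, T_e, T_e, T_d, T_b, T_di, T_ei, T_ei] M (Nat.sub (T_b u) (Nat.mod (T_b u) M)) (Nat.mod (T_b u) M) u) (Nat.ble (nat_lit 21) j)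
noncomputable def dp_b_12 (j u : ℕ) : Bool :=
  Bool.rec (motive := fun _ => Bool) (lF [T_e, T_di, T_b, T_ei, T_bi, T_d, T_ei, T_bi, T_di, T_e, T_d] M (Nat.sub (T_b u) (Nat.mod (T_b u) M)) (Nat.mod (T_b u) M) u) (dp_b_11 j u) (Nat.ble (nat_lit 20) j)
noncomputable def dp_b_13 (j u : ℕ) : Bool :=
  Bool.rec (motive := fun _ => Bool) (lH [] [] M (Nat.sub (T_b u) (Nat.mod (T_b u) M)) (Nat.mod (T_b u) M) u) (lF [T_d, T_e, T_di, T_bi, T_e, T_e, T_d, T_bi, T_di, T_ei, T_ei] M (Nat.sub (T_b u) (Nat.mod (T_b u) M)) (Nat.mod (T_b u) M) u) (Nat.ble (nat_lit 23) j)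
noncomputable def dp_b_14 (j u : ℕ) : Bool :=
  Bool.rec (motive := fun _ => Bool) (lS MG [T_e, T_bi, T_d, T_ei, T_bi, T_di, T_ei, T_d, T_b, T_e, T_di] M (Nat.sub (T_b u) (Nat.mod (T_b u) M)) (nat_lit 40) (Nat.mod (T_b u) M) u) (lF [T_e, T_di, T_b, T_e, T_bi, T_d, T_ei, T_bi, T_di, T_ei, T_d] M (Nat.sub (T_b u) (Nat.mod (T_b u) M)) (Nat.mod (T_b u) M) u) (Nat.ble (nat_lit 26) j)
noncomputable def dp_b_15 (j u : ℕ) : Bool :=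
  Bool.rec (motive := fun _ => Bool) (lS MG [T_b, T_d, T_bi, T_di, T_b] M (Nat.sub (T_b u) (Nat.mod (T_b u) M)) (nat_lit 40) (Nat.mod (T_b u) M) u) (dp_b_14 j u) (Nat.ble (nat_lit 25) j)
noncomputable def dp_b_16 (j u : ℕ) : Bool :=
  Bool.rec (motive := fun _ => Bool) (dp_b_13 j u) (dp_b_15 j u) (Nat.ble (nat_lit 24) j)
noncomputable def dp_b_17 (j u : ℕ) : Bool :=
  Bool.rec (motive := fun _ => Bool) (dp_b_12 j u) (dp_b_16 j u) (Nat.ble (nat_lit 22) j)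
noncomputable def dp_b_18 (j u : ℕ) : Bool :=
  Bool.rec (motive := fun _ => Bool) (dp_b_10 j u) (dp_b_17 j u) (Nat.ble (nat_lit 19) j)
noncomputable def dp_b_19 (j u : ℕ) : Bool :=
  Bool.rec (motive := fun _ => Bool) (dp_b_7 j u) (dp_b_18 j u) (Nat.ble (nat_lit 15) j)
noncomputable def dp_b_20 (j u : ℕ) : Bool :=
  Bool.rec (motive := fun _ => Bool) (dp_b_4 j u) (dp_b_19 j u) (Nat.ble (nat_lit 11) j)
noncomputable def dp_b_21 (j u : ℕ) : Bool :=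
  Bool.rec (motive := fun _ => Bool) (dp_b_1 j u) (dp_b_20 j u) (Nat.ble (nat_lit 7) j)
noncomputable def disp_b (j u : ℕ) : Bool :=
  Bool.rec (motive := fun _ => Bool) (Bool.rec (motive := fun _ => Bool) (lF1 T_bi M (Nat.sub (T_b u) (Nat.mod (T_b u) M)) (Nat.mod (T_b u) M) u) (lDef P (nat_lit 0) (Nat.mod (T_b u) M) u) (Nat.ble (nat_lit 1) j)) (Bool.rec (motive := fun _ => Bool) (Bool.rec (motive := fun _ => Bool) (lDef P (nat_lit 1) u (Nat.mod (T_b u) M)) (lS MG [T_bi] M (Nat.sub (T_b u) (Nat.mod (T_b u) M)) (nat_lit 40) (Nat.mod (T_b u) M) u) (Nat.ble (nat_lit 3) j)) (dp_b_21 j u) (Nat.ble (nat_lit 4) j)) (Nat.ble (nat_lit 2) j)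
noncomputable def chk_b (j u : ℕ) : Bool :=
  Bool.rec (motive := fun _ => Bool) (disp_b j u) (Nat.ble (Nat.succ (MG u)) A) (Nat.ble A (T_b u))
noncomputable def dp_bi_0 (j u : ℕ) : Bool :=
  Bool.rec (motive := fun _ => Bool) (lF [T_d, T_b, T_di, T_bi, T_bi] M (Nat.sub (T_bi u) (Nat.mod (T_bi u) M)) (Nat.mod (T_bi u) M) u) (lF [T_bi, T_d, T_b, T_di, T_bi] M (Nat.sub (T_bi u) (Nat.mod (T_bi u) M)) (Nat.mod (T_bi u) M) u) (Nat.ble (nat_lit 6) j)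
noncomputable def dp_bi_1 (j u : ℕ) : Bool :=
  Bool.rec (motive := fun _ => Bool) (lF [T_bi, T_bi, T_d, T_b, T_di] M (Nat.sub (T_bi u) (Nat.mod (T_bi u) M)) (Nat.mod (T_bi u) M) u) (lS MG [T_di, T_b, T_b, T_b, T_d] M (Nat.sub (T_bi u) (Nat.mod (T_bi u) M)) (nat_lit 40) (Nat.mod (T_bi u) M) u) (Nat.ble (nat_lit 8) j)
noncomputable def dp_bi_2 (j u : ℕ) : Bool :=
  Bool.rec (motive := fun _ => Bool) (lF [T_di, T_di, T_bi, T_bi, T_d, T_d] M (Nat.sub (T_bi u) (Nat.mod (T_bi u) M)) (Nat.mod (T_bi u) M) u) (lF [T_e, T_d, T_ei, T_b, T_di, T_di] M (Nat.sub (T_bi u) (Nat.mod (T_bi u) M)) (Nat.mod (T_bi u) M) u) (Nat.ble (nat_lit 11) j)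
noncomputable def dp_bi_3 (j u : ℕ) : Bool :=
  Bool.rec (motive := fun _ => Bool) (lF [T_e, T_di, T_ei, T_b, T_d, T_d] M (Nat.sub (T_bi u) (Nat.mod (T_bi u) M)) (Nat.mod (T_bi u) M) u) (dp_bi_2 j u) (Nat.ble (nat_lit 10) j)
noncomputable def dp_bi_4 (j u : ℕ) : Bool :=
  Bool.rec (motive := fun _ => Bool) (dp_bi_1 j u) (dp_bi_3 j u) (Nat.ble (nat_lit 9) j)
noncomputable def dp_bi_5 (j u : ℕ) : Bool :=
  Bool.rec (motive := fun _ => Bool) (lS MG [T_bi, T_d, T_b, T_di, T_bi] M (Nat.sub (T_bi u) (Nat.mod (T_bi u) M)) (nat_lit 40) (Nat.mod (T_bi u) M) u) (lS MG [T_d, T_b, T_di, T_bi, T_bi] M (Nat.sub (T_bi u) (Nat.mod (T_bi u) M)) (nat_lit 40) (Nat.mod (T_bi u) M) u) (Nat.ble (nat_lit 13) j)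
noncomputable def dp_bi_6 (j u : ℕ) : Bool :=
  Bool.rec (motive := fun _ => Bool) (lF [T_d, T_ei, T_bi, T_di, T_e, T_d, T_b, T_e, T_di, T_b, T_ei] M (Nat.sub (T_bi u) (Nat.mod (T_bi u) M)) (Nat.mod (T_bi u) M) u) (lF [T_bi, T_d, T_d, T_bi, T_di, T_di] M (Nat.sub (T_bi u) (Nat.mod (T_bi u) M)) (Nat.mod (T_bi u) M) u) (Nat.ble (nat_lit 16) j)
noncomputable def dp_bi_7 (j u : ℕ) : Bool :=
  Bool.rec (motive := fun _ => Bool) (lF [T_d, T_d, T_bi, T_di, T_di, T_bi] M (Nat.sub (T_bi u) (Nat.mod (T_bi u) M)) (Nat.mod (T_bi u) M) u) (dp_bi_6 j u) (Nat.ble (nat_lit 15) j)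
noncomputable def dp_bi_8 (j u : ℕ) : Bool :=
  Bool.rec (motive := fun _ => Bool) (dp_bi_5 j u) (dp_bi_7 j u) (Nat.ble (nat_lit 14) j)
noncomputable def dp_bi_9 (j u : ℕ) : Bool :=
  Bool.rec (motive := fun _ => Bool) (lS MG [T_d, T_ei, T_bi, T_di, T_e, T_d, T_b, T_e, T_di, T_b, T_ei] M (Nat.sub (T_bi u) (Nat.mod (T_bi u) M)) (nat_lit 40) (Nat.mod (T_bi u) M) u) (lS MG [T_bi, T_bi, T_d, T_b, T_di] M (Nat.sub (T_bi u) (Nat.mod (T_bi u) M)) (nat_lit 40) (Nat.mod (T_bi u) M) u) (Nat.ble (nat_lit 18) j)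
noncomputable def dp_bi_10 (j u : ℕ) : Bool :=
  Bool.rec (motive := fun _ => Bool) (lS MG [T_e, T_di, T_ei, T_b, T_d, T_d] M (Nat.sub (T_bi u) (Nat.mod (T_bi u) M)) (nat_lit 40) (Nat.mod (T_bi u) M) u) (lS MG [T_e, T_e, T_d, T_b, T_di, T_ei, T_ei, T_b, T_d, T_ei, T_di] M (Nat.sub (T_bi u) (Nat.mod (T_bi u) M)) (nat_lit 40) (Nat.mod (T_bi u) M) u) (Nat.ble (nat_lit 20) j)
noncomputable def dp_bi_11 (j u : ℕ) : Bool :=
  Bool.rec (motive := fun _ => Bool) (dp_bi_9 j u) (dp_bi_10 j u) (Nat.ble (nat_lit 19) j)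
noncomputable def dp_bi_12 (j u : ℕ) : Bool :=
  Bool.rec (motive := fun _ => Bool) (lS MG [T_e, T_d, T_ei, T_b, T_di, T_di] M (Nat.sub (T_bi u) (Nat.mod (T_bi u) M)) (nat_lit 40) (Nat.mod (T_bi u) M) u) (lS MG [T_di, T_e, T_d, T_b, T_e, T_di, T_b, T_ei, T_bi, T_d, T_ei] M (Nat.sub (T_bi u) (Nat.mod (T_bi u) M)) (nat_lit 40) (Nat.mod (T_bi u) M) u) (Nat.ble (nat_lit 22) j)
noncomputable def dp_bi_13 (j u : ℕ) : Bool :=
  Bool.rec (motive := fun _ => Bool) (lF [T_d, T_ei, T_bi, T_di, T_ei, T_d, T_b, T_e, T_di, T_b, T_e] M (Nat.sub (T_bi u) (Nat.mod (T_bi u) M)) (Nat.mod (T_bi u) M) u) (lS MG [T_di, T_di, T_bi, T_bi, T_d, T_d] M (Nat.sub (T_bi u) (Nat.mod (T_bi u) M)) (nat_lit 40) (Nat.mod (T_bi u) M) u) (Nat.ble (nat_lit 24) j)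
noncomputable def dp_bi_14 (j u : ℕ) : Bool :=
  Bool.rec (motive := fun _ => Bool) (dp_bi_12 j u) (dp_bi_13 j u) (Nat.ble (nat_lit 23) j)
noncomputable def dp_bi_15 (j u : ℕ) : Bool :=
  Bool.rec (motive := fun _ => Bool) (lF [T_di, T_ei, T_d, T_b, T_e, T_di, T_b, T_e, T_bi, T_d, T_ei] M (Nat.sub (T_bi u) (Nat.mod (T_bi u) M)) (Nat.mod (T_bi u) M) u) (lS MG [T_d, T_ei, T_bi, T_di, T_ei, T_d, T_b, T_e, T_di, T_b, T_e] M (Nat.sub (T_bi u) (Nat.mod (T_bi u) M)) (nat_lit 40) (Nat.mod (T_bi u) M) u) (Nat.ble (nat_lit 27) j)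
noncomputable def dp_bi_16 (j u : ℕ) : Bool :=
  Bool.rec (motive := fun _ => Bool) (lS MG [T_d, T_d, T_bi, T_di, T_di, T_bi] M (Nat.sub (T_bi u) (Nat.mod (T_bi u) M)) (nat_lit 40) (Nat.mod (T_bi u) M) u) (dp_bi_15 j u) (Nat.ble (nat_lit 26) j)
noncomputable def dp_bi_17 (j u : ℕ) : Bool :=
  Bool.rec (motive := fun _ => Bool) (lF [T_di, T_e, T_d, T_b, T_e, T_di, T_b, T_ei, T_bi, T_d, T_ei] M (Nat.sub (T_bi u) (Nat.mod (T_bi u) M)) (Nat.mod (T_bi u) M) u) (lF [T_e, T_e, T_d, T_b, T_di, T_ei, T_ei, T_b, T_d, T_ei, T_di] M (Nat.sub (T_bi u) (Nat.mod (T_bi u) M)) (Nat.mod (T_bi u) M) u) (Nat.ble (nat_lit 29) j)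
noncomputable def dp_bi_18 (j u : ℕ) : Bool :=
  Bool.rec (motive := fun _ => Bool) (lS MG [T_di, T_ei, T_ei, T_b, T_d, T_e, T_di, T_bi, T_e, T_e, T_d] M (Nat.sub (T_bi u) (Nat.mod (T_bi u) M)) (nat_lit 40) (Nat.mod (T_bi u) M) u) (lS MG [T_e, T_e, T_d, T_bi, T_di, T_ei, T_ei, T_b, T_d, T_e, T_di] M (Nat.sub (T_bi u) (Nat.mod (T_bi u) M)) (nat_lit 40) (Nat.mod (T_bi u) M) u) (Nat.ble (nat_lit 32) j)
noncomputable def dp_bi_19 (j u : ℕ) : Bool :=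
  Bool.rec (motive := fun _ => Bool) (lF [T_e, T_e, T_d, T_bi, T_di, T_ei, T_ei, T_b, T_d, T_e, T_di] M (Nat.sub (T_bi u) (Nat.mod (T_bi u) M)) (Nat.mod (T_bi u) M) u) (dp_bi_18 j u) (Nat.ble (nat_lit 31) j)
noncomputable def dp_bi_20 (j u : ℕ) : Bool :=
  Bool.rec (motive := fun _ => Bool) (dp_bi_17 j u) (dp_bi_19 j u) (Nat.ble (nat_lit 30) j)
noncomputable def dp_bi_21 (j u : ℕ) : Bool :=
  Bool.rec (motive := fun _ => Bool) (dp_bi_16 j u) (dp_bi_20 j u) (Nat.ble (nat_lit 28) j)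
noncomputable def dp_bi_22 (j u : ℕ) : Bool :=
  Bool.rec (motive := fun _ => Bool) (dp_bi_14 j u) (dp_bi_21 j u) (Nat.ble (nat_lit 25) j)
noncomputable def dp_bi_23 (j u : ℕ) : Bool :=
  Bool.rec (motive := fun _ => Bool) (dp_bi_11 j u) (dp_bi_22 j u) (Nat.ble (nat_lit 21) j)
noncomputable def dp_bi_24 (j u : ℕ) : Bool :=
  Bool.rec (motive := fun _ => Bool) (dp_bi_8 j u) (dp_bi_23 j u) (Nat.ble (nat_lit 17) j)
noncomputable def dp_bi_25 (j u : ℕ) : Bool :=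
  Bool.rec (motive := fun _ => Bool) (dp_bi_4 j u) (dp_bi_24 j u) (Nat.ble (nat_lit 12) j)
noncomputable def dp_bi_26 (j u : ℕ) : Bool :=
  Bool.rec (motive := fun _ => Bool) (Bool.rec (motive := fun _ => Bool) (lF [T_di, T_b, T_b, T_b, T_d] M (Nat.sub (T_bi u) (Nat.mod (T_bi u) M)) (Nat.mod (T_bi u) M) u) (dp_bi_0 j u) (Nat.ble (nat_lit 5) j)) (dp_bi_25 j u) (Nat.ble (nat_lit 7) j)
noncomputable def disp_bi (j u : ℕ) : Bool :=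
  Bool.rec (motive := fun _ => Bool) (Bool.rec (motive := fun _ => Bool) (lDef P (nat_lit 0) u (Nat.mod (T_bi u) M)) (lDef P (nat_lit 1) (Nat.mod (T_bi u) M) u) (Nat.ble (nat_lit 1) j)) (Bool.rec (motive := fun _ => Bool) (Bool.rec (motive := fun _ => Bool) (lF1 T_b M (Nat.sub (T_bi u) (Nat.mod (T_bi u) M)) (Nat.mod (T_bi u) M) u) (lS MG [T_b] M (Nat.sub (T_bi u) (Nat.mod (T_bi u) M)) (nat_lit 40) (Nat.mod (T_bi u) M) u) (Nat.ble (nat_lit 3) j)) (dp_bi_26 j u) (Nat.ble (nat_lit 4) j)) (Nat.ble (nat_lit 2) j)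
noncomputable def chk_bi (j u : ℕ) : Bool :=
  Bool.rec (motive := fun _ => Bool) (disp_bi j u) (Nat.ble (Nat.succ (MG u)) A) (Nat.ble A (T_bi u))
noncomputable def dp_d_0 (j u : ℕ) : Bool :=
  Bool.rec (motive := fun _ => Bool) (lS MG [T_b, T_di, T_bi, T_bi, T_bi] M (Nat.sub (T_d u) (Nat.mod (T_d u) M)) (nat_lit 40) (Nat.mod (T_d u) M) u) (lS MG [T_ei, T_b, T_di, T_di, T_bi, T_e] M (Nat.sub (T_d u) (Nat.mod (T_d u) M)) (nat_lit 40) (Nat.mod (T_d u) M) u) (Nat.ble (nat_lit 9) j)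
noncomputable def dp_d_1 (j u : ℕ) : Bool :=
  Bool.rec (motive := fun _ => Bool) (lF [T_bi, T_di, T_b, T_b, T_b] M (Nat.sub (T_d u) (Nat.mod (T_d u) M)) (Nat.mod (T_d u) M) u) (dp_d_0 j u) (Nat.ble (nat_lit 8) j)
noncomputable def dp_d_2 (j u : ℕ) : Bool :=
  Bool.rec (motive := fun _ => Bool) (lF [T_ei, T_b, T_di, T_di, T_bi, T_e] M (Nat.sub (T_d u) (Nat.mod (T_d u) M)) (Nat.mod (T_d u) M) u) (dp_d_1 j u) (Nat.ble (nat_lit 7) j)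
noncomputable def dp_d_3 (j u : ℕ) : Bool :=
  Bool.rec (motive := fun _ => Bool) (lF [T_d, T_bi, T_e, T_di, T_ei, T_b] M (Nat.sub (T_d u) (Nat.mod (T_d u) M)) (Nat.mod (T_d u) M) u) (lF [T_bi, T_di, T_di, T_bi, T_bi, T_d] M (Nat.sub (T_d u) (Nat.mod (T_d u) M)) (Nat.mod (T_d u) M) u) (Nat.ble (nat_lit 11) j)
noncomputable def dp_d_4 (j u : ℕ) : Bool :=
  Bool.rec (motive := fun _ => Bool) (lF [T_b, T_di, T_di, T_b, T_b, T_d] M (Nat.sub (T_d u) (Nat.mod (T_d u) M)) (Nat.mod (T_d u) M) u) (lS MG [T_d, T_d, T_d, T_d] M (Nat.sub (T_d u) (Nat.mod (T_d u) M)) (nat_lit 40) (Nat.mod (T_d u) M) u) (Nat.ble (nat_lit 13) j)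
noncomputable def dp_d_5 (j u : ℕ) : Bool :=
  Bool.rec (motive := fun _ => Bool) (dp_d_3 j u) (dp_d_4 j u) (Nat.ble (nat_lit 12) j)
noncomputable def dp_d_6 (j u : ℕ) : Bool :=
  Bool.rec (motive := fun _ => Bool) (lF [T_d, T_b, T_di, T_di, T_b, T_b] M (Nat.sub (T_d u) (Nat.mod (T_d u) M)) (Nat.mod (T_d u) M) u) (lS MG [T_bi, T_di, T_b, T_b, T_b] M (Nat.sub (T_d u) (Nat.mod (T_d u) M)) (nat_lit 40) (Nat.mod (T_d u) M) u) (Nat.ble (nat_lit 15) j)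
noncomputable def dp_d_7 (j u : ℕ) : Bool :=
  Bool.rec (motive := fun _ => Bool) (lF [T_bi, T_di, T_ei, T_ei, T_b, T_d, T_e, T_di, T_bi, T_e, T_e] M (Nat.sub (T_d u) (Nat.mod (T_d u) M)) (Nat.mod (T_d u) M) u) (lS MG [T_b, T_di, T_di, T_b, T_b, T_d] M (Nat.sub (T_d u) (Nat.mod (T_d u) M)) (nat_lit 40) (Nat.mod (T_d u) M) u) (Nat.ble (nat_lit 18) j)
noncomputable def dp_d_8 (j u : ℕ) : Bool :=
  Bool.rec (motive := fun _ => Bool) (lF [T_ei, T_bi, T_di, T_ei, T_d, T_b, T_e, T_di, T_b, T_e, T_bi] M (Nat.sub (T_d u) (Nat.mod (T_d u) M)) (Nat.mod (T_d u) M) u) (dp_d_7 j u) (Nat.ble (nat_lit 17) j)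
noncomputable def dp_d_9 (j u : ℕ) : Bool :=
  Bool.rec (motive := fun _ => Bool) (dp_d_6 j u) (dp_d_8 j u) (Nat.ble (nat_lit 16) j)
noncomputable def dp_d_10 (j u : ℕ) : Bool :=
  Bool.rec (motive := fun _ => Bool) (lF [T_b, T_di, T_ei, T_ei, T_b, T_d, T_ei, T_di, T_bi, T_e, T_e] M (Nat.sub (T_d u) (Nat.mod (T_d u) M)) (Nat.mod (T_d u) M) u) (lF [T_ei, T_bi, T_di, T_e, T_d, T_b, T_e, T_di, T_b, T_ei, T_bi] M (Nat.sub (T_d u) (Nat.mod (T_d u) M)) (Nat.mod (T_d u) M) u) (Nat.ble (nat_lit 22) j)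
noncomputable def dp_d_11 (j u : ℕ) : Bool :=
  Bool.rec (motive := fun _ => Bool) (lS MG [T_b, T_di, T_ei, T_ei, T_b, T_d, T_ei, T_di, T_bi, T_e, T_e] M (Nat.sub (T_d u) (Nat.mod (T_d u) M)) (nat_lit 40) (Nat.mod (T_d u) M) u) (dp_d_10 j u) (Nat.ble (nat_lit 21) j)
noncomputable def dp_d_12 (j u : ℕ) : Bool :=
  Bool.rec (motive := fun _ => Bool) (lS MG [T_bi, T_di, T_di, T_bi, T_bi, T_d] M (Nat.sub (T_d u) (Nat.mod (T_d u) M)) (nat_lit 40) (Nat.mod (T_d u) M) u) (dp_d_11 j u) (Nat.ble (nat_lit 20) j)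
noncomputable def dp_d_13 (j u : ℕ) : Bool :=
  Bool.rec (motive := fun _ => Bool) (lS MG [T_b, T_e, T_di, T_b, T_e, T_bi, T_d, T_ei, T_bi, T_di, T_ei] M (Nat.sub (T_d u) (Nat.mod (T_d u) M)) (nat_lit 40) (Nat.mod (T_d u) M) u) (lS MG [T_ei, T_bi, T_di, T_e, T_d, T_b, T_e, T_di, T_b, T_ei, T_bi] M (Nat.sub (T_d u) (Nat.mod (T_d u) M)) (nat_lit 40) (Nat.mod (T_d u) M) u) (Nat.ble (nat_lit 24) j)
noncomputable def dp_d_14 (j u : ℕ) : Bool :=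
  Bool.rec (motive := fun _ => Bool) (lS MG [T_e, T_di, T_bi, T_e, T_e, T_d, T_bi, T_di, T_ei, T_ei, T_b] M (Nat.sub (T_d u) (Nat.mod (T_d u) M)) (nat_lit 40) (Nat.mod (T_d u) M) u) (lS MG [T_d, T_bi, T_di, T_di, T_bi, T_bi] M (Nat.sub (T_d u) (Nat.mod (T_d u) M)) (nat_lit 40) (Nat.mod (T_d u) M) u) (Nat.ble (nat_lit 26) j)
noncomputable def dp_d_15 (j u : ℕ) : Bool :=
  Bool.rec (motive := fun _ => Bool) (dp_d_13 j u) (dp_d_14 j u) (Nat.ble (nat_lit 25) j)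
noncomputable def dp_d_16 (j u : ℕ) : Bool :=
  Bool.rec (motive := fun _ => Bool) (lS MG [T_bi, T_di, T_ei, T_ei, T_b, T_d, T_e, T_di, T_bi, T_e, T_e] M (Nat.sub (T_d u) (Nat.mod (T_d u) M)) (nat_lit 40) (Nat.mod (T_d u) M) u) (lF [T_e, T_di, T_bi, T_e, T_e, T_d, T_bi, T_di, T_ei, T_ei, T_b] M (Nat.sub (T_d u) (Nat.mod (T_d u) M)) (Nat.mod (T_d u) M) u) (Nat.ble (nat_lit 28) j)
noncomputable def dp_d_17 (j u : ℕ) : Bool :=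
  Bool.rec (motive := fun _ => Bool) (lS MG [T_ei, T_di, T_bi, T_e, T_e, T_d, T_b, T_di, T_ei, T_ei, T_b] M (Nat.sub (T_d u) (Nat.mod (T_d u) M)) (nat_lit 40) (Nat.mod (T_d u) M) u) (lS MG [T_b, T_e, T_di, T_b, T_ei, T_bi, T_d, T_ei, T_bi, T_di, T_e] M (Nat.sub (T_d u) (Nat.mod (T_d u) M)) (nat_lit 40) (Nat.mod (T_d u) M) u) (Nat.ble (nat_lit 31) j)
noncomputable def dp_d_18 (j u : ℕ) : Bool :=
  Bool.rec (motive := fun _ => Bool) (lF [T_ei, T_di, T_bi, T_e, T_e, T_d, T_b, T_di, T_ei, T_ei, T_b] M (Nat.sub (T_d u) (Nat.mod (T_d u) M)) (Nat.mod (T_d u) M) u) (dp_d_17 j u) (Nat.ble (nat_lit 30) j)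
noncomputable def dp_d_19 (j u : ℕ) : Bool :=
  Bool.rec (motive := fun _ => Bool) (dp_d_16 j u) (dp_d_18 j u) (Nat.ble (nat_lit 29) j)
noncomputable def dp_d_20 (j u : ℕ) : Bool :=
  Bool.rec (motive := fun _ => Bool) (dp_d_15 j u) (dp_d_19 j u) (Nat.ble (nat_lit 27) j)
noncomputable def dp_d_21 (j u : ℕ) : Bool :=
  Bool.rec (motive := fun _ => Bool) (dp_d_12 j u) (dp_d_20 j u) (Nat.ble (nat_lit 23) j)
noncomputable def dp_d_22 (j u : ℕ) : Bool :=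
  Bool.rec (motive := fun _ => Bool) (dp_d_9 j u) (dp_d_21 j u) (Nat.ble (nat_lit 19) j)
noncomputable def dp_d_23 (j u : ℕ) : Bool :=
  Bool.rec (motive := fun _ => Bool) (dp_d_5 j u) (dp_d_22 j u) (Nat.ble (nat_lit 14) j)
noncomputable def dp_d_24 (j u : ℕ) : Bool :=
  Bool.rec (motive := fun _ => Bool) (dp_d_2 j u) (dp_d_23 j u) (Nat.ble (nat_lit 10) j)
noncomputable def dp_d_25 (j u : ℕ) : Bool :=
  Bool.rec (motive := fun _ => Bool) (Bool.rec (motive := fun _ => Bool) (lF [T_d, T_d, T_d, T_d] M (Nat.sub (T_d u) (Nat.mod (T_d u) M)) (Nat.mod (T_d u) M) u) (lF [T_b, T_di, T_bi, T_bi, T_bi] M (Nat.sub (T_d u) (Nat.mod (T_d u) M)) (Nat.mod (T_d u) M) u) (Nat.ble (nat_lit 5) j)) (dp_d_24 j u) (Nat.ble (nat_lit 6) j)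
noncomputable def disp_d (j u : ℕ) : Bool :=
  Bool.rec (motive := fun _ => Bool) (Bool.rec (motive := fun _ => Bool) (lF1 T_di M (Nat.sub (T_d u) (Nat.mod (T_d u) M)) (Nat.mod (T_d u) M) u) (lDef P (nat_lit 2) (Nat.mod (T_d u) M) u) (Nat.ble (nat_lit 1) j)) (Bool.rec (motive := fun _ => Bool) (Bool.rec (motive := fun _ => Bool) (lDef P (nat_lit 3) u (Nat.mod (T_d u) M)) (lS MG [T_di] M (Nat.sub (T_d u) (Nat.mod (T_d u) M)) (nat_lit 40) (Nat.mod (T_d u) M) u) (Nat.ble (nat_lit 3) j)) (dp_d_25 j u) (Nat.ble (nat_lit 4) j)) (Nat.ble (nat_lit 2) j)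
noncomputable def chk_d (j u : ℕ) : Bool :=
  Bool.rec (motive := fun _ => Bool) (disp_d j u) (Nat.ble (Nat.succ (MG u)) A) (Nat.ble A (T_d u))
noncomputable def dp_di_0 (j u : ℕ) : Bool :=
  Bool.rec (motive := fun _ => Bool) (lF [T_ei, T_b, T_d, T_d, T_bi, T_e] M (Nat.sub (T_di u) (Nat.mod (T_di u) M)) (Nat.mod (T_di u) M) u) (lF [T_b, T_b, T_b, T_d, T_bi] M (Nat.sub (T_di u) (Nat.mod (T_di u) M)) (Nat.mod (T_di u) M) u) (Nat.ble (nat_lit 6) j)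
noncomputable def dp_di_1 (j u : ℕ) : Bool :=
  Bool.rec (motive := fun _ => Bool) (lF [T_di, T_bi, T_e, T_d, T_ei, T_b] M (Nat.sub (T_di u) (Nat.mod (T_di u) M)) (Nat.mod (T_di u) M) u) (lS MG [T_b, T_b, T_b, T_d, T_bi] M (Nat.sub (T_di u) (Nat.mod (T_di u) M)) (nat_lit 40) (Nat.mod (T_di u) M) u) (Nat.ble (nat_lit 10) j)
noncomputable def dp_di_2 (j u : ℕ) : Bool :=
  Bool.rec (motive := fun _ => Bool) (lS MG [T_ei, T_b, T_d, T_d, T_bi, T_e] M (Nat.sub (T_di u) (Nat.mod (T_di u) M)) (nat_lit 40) (Nat.mod (T_di u) M) u) (dp_di_1 j u) (Nat.ble (nat_lit 9) j)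
noncomputable def dp_di_3 (j u : ℕ) : Bool :=
  Bool.rec (motive := fun _ => Bool) (lF [T_bi, T_bi, T_bi, T_d, T_b] M (Nat.sub (T_di u) (Nat.mod (T_di u) M)) (Nat.mod (T_di u) M) u) (dp_di_2 j u) (Nat.ble (nat_lit 8) j)
noncomputable def dp_di_4 (j u : ℕ) : Bool :=
  Bool.rec (motive := fun _ => Bool) (lF [T_di, T_bi, T_bi, T_d, T_d, T_bi] M (Nat.sub (T_di u) (Nat.mod (T_di u) M)) (Nat.mod (T_di u) M) u) (lF [T_bi, T_bi, T_d, T_d, T_bi, T_di] M (Nat.sub (T_di u) (Nat.mod (T_di u) M)) (Nat.mod (T_di u) M) u) (Nat.ble (nat_lit 12) j)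
noncomputable def dp_di_5 (j u : ℕ) : Bool :=
  Bool.rec (motive := fun _ => Bool) (lF [T_di, T_b, T_b, T_d, T_d, T_b] M (Nat.sub (T_di u) (Nat.mod (T_di u) M)) (Nat.mod (T_di u) M) u) (lS MG [T_bi, T_bi, T_bi, T_d, T_b] M (Nat.sub (T_di u) (Nat.mod (T_di u) M)) (nat_lit 40) (Nat.mod (T_di u) M) u) (Nat.ble (nat_lit 15) j)
noncomputable def dp_di_6 (j u : ℕ) : Bool :=
  Bool.rec (motive := fun _ => Bool) (lF [T_b, T_b, T_d, T_d, T_b, T_di] M (Nat.sub (T_di u) (Nat.mod (T_di u) M)) (Nat.mod (T_di u) M) u) (dp_di_5 j u) (Nat.ble (nat_lit 14) j)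
noncomputable def dp_di_7 (j u : ℕ) : Bool :=
  Bool.rec (motive := fun _ => Bool) (dp_di_4 j u) (dp_di_6 j u) (Nat.ble (nat_lit 13) j)
noncomputable def dp_di_8 (j u : ℕ) : Bool :=
  Bool.rec (motive := fun _ => Bool) (lS MG [T_di, T_di, T_di, T_di] M (Nat.sub (T_di u) (Nat.mod (T_di u) M)) (nat_lit 40) (Nat.mod (T_di u) M) u) (lS MG [T_ei, T_ei, T_b, T_d, T_ei, T_di, T_bi, T_e, T_e, T_d, T_b] M (Nat.sub (T_di u) (Nat.mod (T_di u) M)) (nat_lit 40) (Nat.mod (T_di u) M) u) (Nat.ble (nat_lit 17) j)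
noncomputable def dp_di_9 (j u : ℕ) : Bool :=
  Bool.rec (motive := fun _ => Bool) (lS MG [T_di, T_bi, T_bi, T_d, T_d, T_bi] M (Nat.sub (T_di u) (Nat.mod (T_di u) M)) (nat_lit 40) (Nat.mod (T_di u) M) u) (lS MG [T_e, T_d, T_b, T_e, T_di, T_b, T_ei, T_bi, T_d, T_ei, T_bi] M (Nat.sub (T_di u) (Nat.mod (T_di u) M)) (nat_lit 40) (Nat.mod (T_di u) M) u) (Nat.ble (nat_lit 20) j)
noncomputable def dp_di_10 (j u : ℕ) : Bool :=
  Bool.rec (motive := fun _ => Bool) (lS MG [T_bi, T_e, T_e, T_d, T_b, T_di, T_ei, T_ei, T_b, T_d, T_ei] M (Nat.sub (T_di u) (Nat.mod (T_di u) M)) (nat_lit 40) (Nat.mod (T_di u) M) u) (dp_di_9 j u) (Nat.ble (nat_lit 19) j)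
noncomputable def dp_di_11 (j u : ℕ) : Bool :=
  Bool.rec (motive := fun _ => Bool) (dp_di_8 j u) (dp_di_10 j u) (Nat.ble (nat_lit 18) j)
noncomputable def dp_di_12 (j u : ℕ) : Bool :=
  Bool.rec (motive := fun _ => Bool) (lS MG [T_ei, T_d, T_b, T_e, T_di, T_b, T_e, T_bi, T_d, T_ei, T_bi] M (Nat.sub (T_di u) (Nat.mod (T_di u) M)) (nat_lit 40) (Nat.mod (T_di u) M) u) (lF [T_ei, T_ei, T_b, T_d, T_ei, T_di, T_bi, T_e, T_e, T_d, T_b] M (Nat.sub (T_di u) (Nat.mod (T_di u) M)) (Nat.mod (T_di u) M) u) (Nat.ble (nat_lit 22) j)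
noncomputable def dp_di_13 (j u : ℕ) : Bool :=
  Bool.rec (motive := fun _ => Bool) (lS MG [T_b, T_b, T_d, T_d, T_b, T_di] M (Nat.sub (T_di u) (Nat.mod (T_di u) M)) (nat_lit 40) (Nat.mod (T_di u) M) u) (lS MG [T_di, T_bi, T_e, T_d, T_ei, T_b] M (Nat.sub (T_di u) (Nat.mod (T_di u) M)) (nat_lit 40) (Nat.mod (T_di u) M) u) (Nat.ble (nat_lit 25) j)
noncomputable def dp_di_14 (j u : ℕ) : Bool :=
  Bool.rec (motive := fun _ => Bool) (lF [T_b, T_e, T_bi, T_d, T_ei, T_bi, T_di, T_ei, T_d, T_b, T_e] M (Nat.sub (T_di u) (Nat.mod (T_di u) M)) (Nat.mod (T_di u) M) u) (dp_di_13 j u) (Nat.ble (nat_lit 24) j)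
noncomputable def dp_di_15 (j u : ℕ) : Bool :=
  Bool.rec (motive := fun _ => Bool) (dp_di_12 j u) (dp_di_14 j u) (Nat.ble (nat_lit 23) j)
noncomputable def dp_di_16 (j u : ℕ) : Bool :=
  Bool.rec (motive := fun _ => Bool) (lS MG [T_ei, T_ei, T_b, T_d, T_e, T_di, T_bi, T_e, T_e, T_d, T_bi] M (Nat.sub (T_di u) (Nat.mod (T_di u) M)) (nat_lit 40) (Nat.mod (T_di u) M) u) (lS MG [T_bi, T_e, T_d, T_ei, T_b, T_di] M (Nat.sub (T_di u) (Nat.mod (T_di u) M)) (nat_lit 40) (Nat.mod (T_di u) M) u) (Nat.ble (nat_lit 28) j)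
noncomputable def dp_di_17 (j u : ℕ) : Bool :=
  Bool.rec (motive := fun _ => Bool) (lF [T_ei, T_ei, T_b, T_d, T_e, T_di, T_bi, T_e, T_e, T_d, T_bi] M (Nat.sub (T_di u) (Nat.mod (T_di u) M)) (Nat.mod (T_di u) M) u) (dp_di_16 j u) (Nat.ble (nat_lit 27) j)
noncomputable def dp_di_18 (j u : ℕ) : Bool :=
  Bool.rec (motive := fun _ => Bool) (lF [T_e, T_d, T_b, T_e, T_di, T_b, T_ei, T_bi, T_d, T_ei, T_bi] M (Nat.sub (T_di u) (Nat.mod (T_di u) M)) (Nat.mod (T_di u) M) u) (lF [T_bi, T_e, T_e, T_d, T_b, T_di, T_ei, T_ei, T_b, T_d, T_ei] M (Nat.sub (T_di u) (Nat.mod (T_di u) M)) (Nat.mod (T_di u) M) u) (Nat.ble (nat_lit 30) j)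
noncomputable def dp_di_19 (j u : ℕ) : Bool :=
  Bool.rec (motive := fun _ => Bool) (lS MG [T_b, T_e, T_bi, T_d, T_ei, T_bi, T_di, T_ei, T_d, T_b, T_e] M (Nat.sub (T_di u) (Nat.mod (T_di u) M)) (nat_lit 40) (Nat.mod (T_di u) M) u) (lS MG [T_b, T_ei, T_bi, T_d, T_ei, T_bi, T_di, T_e, T_d, T_b, T_e] M (Nat.sub (T_di u) (Nat.mod (T_di u) M)) (nat_lit 40) (Nat.mod (T_di u) M) u) (Nat.ble (nat_lit 32) j)
noncomputable def dp_di_20 (j u : ℕ) : Bool :=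
  Bool.rec (motive := fun _ => Bool) (dp_di_18 j u) (dp_di_19 j u) (Nat.ble (nat_lit 31) j)
noncomputable def dp_di_21 (j u : ℕ) : Bool :=
  Bool.rec (motive := fun _ => Bool) (dp_di_17 j u) (dp_di_20 j u) (Nat.ble (nat_lit 29) j)
noncomputable def dp_di_22 (j u : ℕ) : Bool :=
  Bool.rec (motive := fun _ => Bool) (dp_di_15 j u) (dp_di_21 j u) (Nat.ble (nat_lit 26) j)
noncomputable def dp_di_23 (j u : ℕ) : Bool :=
  Bool.rec (motive := fun _ => Bool) (dp_di_11 j u) (dp_di_22 j u) (Nat.ble (nat_lit 21) j)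
noncomputable def dp_di_24 (j u : ℕ) : Bool :=
  Bool.rec (motive := fun _ => Bool) (dp_di_7 j u) (dp_di_23 j u) (Nat.ble (nat_lit 16) j)
noncomputable def dp_di_25 (j u : ℕ) : Bool :=
  Bool.rec (motive := fun _ => Bool) (dp_di_3 j u) (dp_di_24 j u) (Nat.ble (nat_lit 11) j)
noncomputable def dp_di_26 (j u : ℕ) : Bool :=
  Bool.rec (motive := fun _ => Bool) (Bool.rec (motive := fun _ => Bool) (lF [T_di, T_di, T_di, T_di] M (Nat.sub (T_di u) (Nat.mod (T_di u) M)) (Nat.mod (T_di u) M) u) (dp_di_0 j u) (Nat.ble (nat_lit 5) j)) (dp_di_25 j u) (Nat.ble (nat_lit 7) j)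
noncomputable def disp_di (j u : ℕ) : Bool :=
  Bool.rec (motive := fun _ => Bool) (Bool.rec (motive := fun _ => Bool) (lF1 T_d M (Nat.sub (T_di u) (Nat.mod (T_di u) M)) (Nat.mod (T_di u) M) u) (lDef P (nat_lit 2) u (Nat.mod (T_di u) M)) (Nat.ble (nat_lit 1) j)) (Bool.rec (motive := fun _ => Bool) (Bool.rec (motive := fun _ => Bool) (lDef P (nat_lit 3) (Nat.mod (T_di u) M) u) (lS MG [T_d] M (Nat.sub (T_di u) (Nat.mod (T_di u) M)) (nat_lit 40) (Nat.mod (T_di u) M) u) (Nat.ble (nat_lit 3) j)) (dp_di_26 j u) (Nat.ble (nat_lit 4) j)) (Nat.ble (nat_lit 2) j)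
noncomputable def chk_di (j u : ℕ) : Bool :=
  Bool.rec (motive := fun _ => Bool) (disp_di j u) (Nat.ble (Nat.succ (MG u)) A) (Nat.ble A (T_di u))
noncomputable def dp_e_0 (j u : ℕ) : Bool :=
  Bool.rec (motive := fun _ => Bool) (lF [T_di, T_ei, T_b, T_d, T_d, T_bi] M (Nat.sub (T_e u) (Nat.mod (T_e u) M)) (Nat.mod (T_e u) M) u) (lF [T_d, T_ei, T_b, T_di, T_di, T_bi] M (Nat.sub (T_e u) (Nat.mod (T_e u) M)) (Nat.mod (T_e u) M) u) (Nat.ble (nat_lit 5) j)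
noncomputable def dp_e_1 (j u : ℕ) : Bool :=
  Bool.rec (motive := fun _ => Bool) (lS MG [T_di, T_ei, T_b, T_d, T_d, T_bi] M (Nat.sub (T_e u) (Nat.mod (T_e u) M)) (nat_lit 40) (Nat.mod (T_e u) M) u) (lS MG [T_d, T_ei, T_b, T_di, T_di, T_bi] M (Nat.sub (T_e u) (Nat.mod (T_e u) M)) (nat_lit 40) (Nat.mod (T_e u) M) u) (Nat.ble (nat_lit 7) j)
noncomputable def dp_e_2 (j u : ℕ) : Bool :=
  Bool.rec (motive := fun _ => Bool) (lF [T_di, T_bi, T_e, T_e, T_d, T_bi, T_di, T_ei, T_ei, T_b, T_d] M (Nat.sub (T_e u) (Nat.mod (T_e u) M)) (Nat.mod (T_e u) M) u) (lS MG [T_di, T_bi, T_e, T_e, T_d, T_bi, T_di, T_ei, T_ei, T_b, T_d] M (Nat.sub (T_e u) (Nat.mod (T_e u) M)) (nat_lit 40) (Nat.mod (T_e u) M) u) (Nat.ble (nat_lit 10) j)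
noncomputable def dp_e_3 (j u : ℕ) : Bool :=
  Bool.rec (motive := fun _ => Bool) (lS MG [T_d, T_b, T_e, T_di, T_b, T_ei, T_bi, T_d, T_ei, T_bi, T_di] M (Nat.sub (T_e u) (Nat.mod (T_e u) M)) (nat_lit 40) (Nat.mod (T_e u) M) u) (dp_e_2 j u) (Nat.ble (nat_lit 9) j)
noncomputable def dp_e_4 (j u : ℕ) : Bool :=
  Bool.rec (motive := fun _ => Bool) (lF [T_e, T_d, T_bi, T_di, T_ei, T_ei, T_b, T_d, T_e, T_di, T_bi] M (Nat.sub (T_e u) (Nat.mod (T_e u) M)) (Nat.mod (T_e u) M) u) (lS MG [T_bi, T_d, T_ei, T_bi, T_di, T_ei, T_d, T_b, T_e, T_di, T_b] M (Nat.sub (T_e u) (Nat.mod (T_e u) M)) (nat_lit 40) (Nat.mod (T_e u) M) u) (Nat.ble (nat_lit 13) j)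
noncomputable def dp_e_5 (j u : ℕ) : Bool :=
  Bool.rec (motive := fun _ => Bool) (lS MG [T_d, T_bi, T_di, T_ei, T_ei, T_b, T_d, T_e, T_di, T_bi, T_e] M (Nat.sub (T_e u) (Nat.mod (T_e u) M)) (nat_lit 40) (Nat.mod (T_e u) M) u) (dp_e_4 j u) (Nat.ble (nat_lit 12) j)
noncomputable def dp_e_6 (j u : ℕ) : Bool :=
  Bool.rec (motive := fun _ => Bool) (lF [T_d, T_bi, T_di, T_ei, T_ei, T_b, T_d, T_e, T_di, T_bi, T_e] M (Nat.sub (T_e u) (Nat.mod (T_e u) M)) (Nat.mod (T_e u) M) u) (lS MG [T_e, T_d, T_bi, T_di, T_ei, T_ei, T_b, T_d, T_e, T_di, T_bi] M (Nat.sub (T_e u) (Nat.mod (T_e u) M)) (nat_lit 40) (Nat.mod (T_e u) M) u) (Nat.ble (nat_lit 16) j)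
noncomputable def dp_e_7 (j u : ℕ) : Bool :=
  Bool.rec (motive := fun _ => Bool) (lS MG [T_e, T_d, T_b, T_di, T_ei, T_ei, T_b, T_d, T_ei, T_di, T_bi] M (Nat.sub (T_e u) (Nat.mod (T_e u) M)) (nat_lit 40) (Nat.mod (T_e u) M) u) (dp_e_6 j u) (Nat.ble (nat_lit 15) j)
noncomputable def dp_e_8 (j u : ℕ) : Bool :=
  Bool.rec (motive := fun _ => Bool) (lS MG [T_di, T_b, T_ei, T_bi, T_d, T_ei, T_bi, T_di, T_e, T_d, T_b] M (Nat.sub (T_e u) (Nat.mod (T_e u) M)) (nat_lit 40) (Nat.mod (T_e u) M) u) (lS MG [T_d, T_b, T_di, T_ei, T_ei, T_b, T_d, T_ei, T_di, T_bi, T_e] M (Nat.sub (T_e u) (Nat.mod (T_e u) M)) (nat_lit 40) (Nat.mod (T_e u) M) u) (Nat.ble (nat_lit 18) j)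
noncomputable def dp_e_9 (j u : ℕ) : Bool :=
  Bool.rec (motive := fun _ => Bool) (lF [T_d, T_b, T_e, T_di, T_b, T_ei, T_bi, T_d, T_ei, T_bi, T_di] M (Nat.sub (T_e u) (Nat.mod (T_e u) M)) (Nat.mod (T_e u) M) u) (lF [T_d, T_b, T_di, T_ei, T_ei, T_b, T_d, T_ei, T_di, T_bi, T_e] M (Nat.sub (T_e u) (Nat.mod (T_e u) M)) (Nat.mod (T_e u) M) u) (Nat.ble (nat_lit 21) j)
noncomputable def dp_e_10 (j u : ℕ) : Bool :=
  Bool.rec (motive := fun _ => Bool) (lS MG [T_di, T_b, T_e, T_bi, T_d, T_ei, T_bi, T_di, T_ei, T_d, T_b] M (Nat.sub (T_e u) (Nat.mod (T_e u) M)) (nat_lit 40) (Nat.mod (T_e u) M) u) (dp_e_9 j u) (Nat.ble (nat_lit 20) j)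
noncomputable def dp_e_11 (j u : ℕ) : Bool :=
  Bool.rec (motive := fun _ => Bool) (dp_e_8 j u) (dp_e_10 j u) (Nat.ble (nat_lit 19) j)
noncomputable def dp_e_12 (j u : ℕ) : Bool :=
  Bool.rec (motive := fun _ => Bool) (dp_e_7 j u) (dp_e_11 j u) (Nat.ble (nat_lit 17) j)
noncomputable def dp_e_13 (j u : ℕ) : Bool :=
  Bool.rec (motive := fun _ => Bool) (dp_e_5 j u) (dp_e_12 j u) (Nat.ble (nat_lit 14) j)
noncomputable def dp_e_14 (j u : ℕ) : Bool :=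
  Bool.rec (motive := fun _ => Bool) (dp_e_3 j u) (dp_e_13 j u) (Nat.ble (nat_lit 11) j)
noncomputable def dp_e_15 (j u : ℕ) : Bool :=
  Bool.rec (motive := fun _ => Bool) (dp_e_1 j u) (dp_e_14 j u) (Nat.ble (nat_lit 8) j)
noncomputable def dp_e_16 (j u : ℕ) : Bool :=
  Bool.rec (motive := fun _ => Bool) (dp_e_0 j u) (dp_e_15 j u) (Nat.ble (nat_lit 6) j)
noncomputable def dp_e_17 (j u : ℕ) : Bool :=
  Bool.rec (motive := fun _ => Bool) (Bool.rec (motive := fun _ => Bool) (lF1 T_ei M (Nat.sub (T_e u) (Nat.mod (T_e u) M)) (Nat.mod (T_e u) M) u) (lS MG [T_ei] M (Nat.sub (T_e u) (Nat.mod (T_e u) M)) (nat_lit 40) (Nat.mod (T_e u) M) u) (Nat.ble (nat_lit 3) j)) (dp_e_16 j u) (Nat.ble (nat_lit 4) j)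
noncomputable def disp_e (j u : ℕ) : Bool :=
  Bool.rec (motive := fun _ => Bool) (Bool.rec (motive := fun _ => Bool) (lDef P (nat_lit 5) u (Nat.mod (T_e u) M)) (lDef P (nat_lit 4) (Nat.mod (T_e u) M) u) (Nat.ble (nat_lit 1) j)) (dp_e_17 j u) (Nat.ble (nat_lit 2) j)
noncomputable def chk_e (j u : ℕ) : Bool :=
  Bool.rec (motive := fun _ => Bool) (disp_e j u) (Nat.ble (Nat.succ (MG u)) A) (Nat.ble A (T_e u))
noncomputable def dp_ei_0 (j u : ℕ) : Bool :=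
  Bool.rec (motive := fun _ => Bool) (lF [T_b, T_d, T_d, T_bi, T_e, T_di] M (Nat.sub (T_ei u) (Nat.mod (T_ei u) M)) (Nat.mod (T_ei u) M) u) (lS MG [T_b, T_di, T_di, T_bi, T_e, T_d] M (Nat.sub (T_ei u) (Nat.mod (T_ei u) M)) (nat_lit 40) (Nat.mod (T_ei u) M) u) (Nat.ble (nat_lit 6) j)
noncomputable def dp_ei_1 (j u : ℕ) : Bool :=
  Bool.rec (motive := fun _ => Bool) (lS MG [T_di, T_bi, T_e, T_e, T_d, T_b, T_di, T_ei, T_ei, T_b, T_d] M (Nat.sub (T_ei u) (Nat.mod (T_ei u) M)) (nat_lit 40) (Nat.mod (T_ei u) M) u) (lS MG [T_b, T_d, T_ei, T_di, T_bi, T_e, T_e, T_d, T_b, T_di, T_ei] M (Nat.sub (T_ei u) (Nat.mod (T_ei u) M)) (nat_lit 40) (Nat.mod (T_ei u) M) u) (Nat.ble (nat_lit 10) j)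
noncomputable def dp_ei_2 (j u : ℕ) : Bool :=
  Bool.rec (motive := fun _ => Bool) (lS MG [T_bi, T_di, T_ei, T_d, T_b, T_e, T_di, T_b, T_e, T_bi, T_d] M (Nat.sub (T_ei u) (Nat.mod (T_ei u) M)) (nat_lit 40) (Nat.mod (T_ei u) M) u) (dp_ei_1 j u) (Nat.ble (nat_lit 9) j)
noncomputable def dp_ei_3 (j u : ℕ) : Bool :=
  Bool.rec (motive := fun _ => Bool) (lS MG [T_b, T_d, T_d, T_bi, T_e, T_di] M (Nat.sub (T_ei u) (Nat.mod (T_ei u) M)) (nat_lit 40) (Nat.mod (T_ei u) M) u) (dp_ei_2 j u) (Nat.ble (nat_lit 8) j)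
noncomputable def dp_ei_4 (j u : ℕ) : Bool :=
  Bool.rec (motive := fun _ => Bool) (lS MG [T_d, T_b, T_e, T_di, T_b, T_e, T_bi, T_d, T_ei, T_bi, T_di] M (Nat.sub (T_ei u) (Nat.mod (T_ei u) M)) (nat_lit 40) (Nat.mod (T_ei u) M) u) (lS MG [T_bi, T_di, T_e, T_d, T_b, T_e, T_di, T_b, T_ei, T_bi, T_d] M (Nat.sub (T_ei u) (Nat.mod (T_ei u) M)) (nat_lit 40) (Nat.mod (T_ei u) M) u) (Nat.ble (nat_lit 12) j)
noncomputable def dp_ei_5 (j u : ℕ) : Bool :=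
  Bool.rec (motive := fun _ => Bool) (lF [T_b, T_d, T_ei, T_di, T_bi, T_e, T_e, T_d, T_b, T_di, T_ei] M (Nat.sub (T_ei u) (Nat.mod (T_ei u) M)) (Nat.mod (T_ei u) M) u) (lS MG [T_ei, T_b, T_d, T_e, T_di, T_bi, T_e, T_e, T_d, T_bi, T_di] M (Nat.sub (T_ei u) (Nat.mod (T_ei u) M)) (nat_lit 40) (Nat.mod (T_ei u) M) u) (Nat.ble (nat_lit 14) j)
noncomputable def dp_ei_6 (j u : ℕ) : Bool :=
  Bool.rec (motive := fun _ => Bool) (dp_ei_4 j u) (dp_ei_5 j u) (Nat.ble (nat_lit 13) j)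
noncomputable def dp_ei_7 (j u : ℕ) : Bool :=
  Bool.rec (motive := fun _ => Bool) (lF [T_b, T_d, T_e, T_di, T_bi, T_e, T_e, T_d, T_bi, T_di, T_ei] M (Nat.sub (T_ei u) (Nat.mod (T_ei u) M)) (Nat.mod (T_ei u) M) u) (lS MG [T_ei, T_b, T_d, T_ei, T_di, T_bi, T_e, T_e, T_d, T_b, T_di] M (Nat.sub (T_ei u) (Nat.mod (T_ei u) M)) (nat_lit 40) (Nat.mod (T_ei u) M) u) (Nat.ble (nat_lit 17) j)
noncomputable def dp_ei_8 (j u : ℕ) : Bool :=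
  Bool.rec (motive := fun _ => Bool) (lF [T_bi, T_di, T_ei, T_d, T_b, T_e, T_di, T_b, T_e, T_bi, T_d] M (Nat.sub (T_ei u) (Nat.mod (T_ei u) M)) (Nat.mod (T_ei u) M) u) (dp_ei_7 j u) (Nat.ble (nat_lit 16) j)
noncomputable def dp_ei_9 (j u : ℕ) : Bool :=
  Bool.rec (motive := fun _ => Bool) (lF [T_bi, T_di, T_e, T_d, T_b, T_e, T_di, T_b, T_ei, T_bi, T_d] M (Nat.sub (T_ei u) (Nat.mod (T_ei u) M)) (Nat.mod (T_ei u) M) u) (lF [T_d, T_b, T_e, T_di, T_b, T_e, T_bi, T_d, T_ei, T_bi, T_di] M (Nat.sub (T_ei u) (Nat.mod (T_ei u) M)) (Nat.mod (T_ei u) M) u) (Nat.ble (nat_lit 19) j)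
noncomputable def dp_ei_10 (j u : ℕ) : Bool :=
  Bool.rec (motive := fun _ => Bool) (lF [T_di, T_bi, T_e, T_e, T_d, T_b, T_di, T_ei, T_ei, T_b, T_d] M (Nat.sub (T_ei u) (Nat.mod (T_ei u) M)) (Nat.mod (T_ei u) M) u) (lS MG [T_b, T_d, T_e, T_di, T_bi, T_e, T_e, T_d, T_bi, T_di, T_ei] M (Nat.sub (T_ei u) (Nat.mod (T_ei u) M)) (nat_lit 40) (Nat.mod (T_ei u) M) u) (Nat.ble (nat_lit 21) j)
noncomputable def dp_ei_11 (j u : ℕ) : Bool :=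
  Bool.rec (motive := fun _ => Bool) (lF [T_bi, T_d, T_ei, T_bi, T_di, T_e, T_d, T_b, T_e, T_di, T_b] M (Nat.sub (T_ei u) (Nat.mod (T_ei u) M)) (Nat.mod (T_ei u) M) u) (lS MG [T_bi, T_d, T_ei, T_bi, T_di, T_e, T_d, T_b, T_e, T_di, T_b] M (Nat.sub (T_ei u) (Nat.mod (T_ei u) M)) (nat_lit 40) (Nat.mod (T_ei u) M) u) (Nat.ble (nat_lit 23) j)
noncomputable def dp_ei_12 (j u : ℕ) : Bool :=
  Bool.rec (motive := fun _ => Bool) (dp_ei_10 j u) (dp_ei_11 j u) (Nat.ble (nat_lit 22) j)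
noncomputable def dp_ei_13 (j u : ℕ) : Bool :=
  Bool.rec (motive := fun _ => Bool) (dp_ei_9 j u) (dp_ei_12 j u) (Nat.ble (nat_lit 20) j)
noncomputable def dp_ei_14 (j u : ℕ) : Bool :=
  Bool.rec (motive := fun _ => Bool) (dp_ei_8 j u) (dp_ei_13 j u) (Nat.ble (nat_lit 18) j)
noncomputable def dp_ei_15 (j u : ℕ) : Bool :=
  Bool.rec (motive := fun _ => Bool) (dp_ei_6 j u) (dp_ei_14 j u) (Nat.ble (nat_lit 15) j)
noncomputable def dp_ei_16 (j u : ℕ) : Bool :=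
  Bool.rec (motive := fun _ => Bool) (dp_ei_3 j u) (dp_ei_15 j u) (Nat.ble (nat_lit 11) j)
noncomputable def dp_ei_17 (j u : ℕ) : Bool :=
  Bool.rec (motive := fun _ => Bool) (dp_ei_0 j u) (dp_ei_16 j u) (Nat.ble (nat_lit 7) j)
noncomputable def dp_ei_18 (j u : ℕ) : Bool :=
  Bool.rec (motive := fun _ => Bool) (Bool.rec (motive := fun _ => Bool) (lS MG [T_e] M (Nat.sub (T_ei u) (Nat.mod (T_ei u) M)) (nat_lit 40) (Nat.mod (T_ei u) M) u) (lF [T_b, T_di, T_di, T_bi, T_e, T_d] M (Nat.sub (T_ei u) (Nat.mod (T_ei u) M)) (Nat.mod (T_ei u) M) u) (Nat.ble (nat_lit 4) j)) (dp_ei_17 j u) (Nat.ble (nat_lit 5) j)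
noncomputable def dp_ei_19 (j u : ℕ) : Bool :=
  Bool.rec (motive := fun _ => Bool) (lF1 T_e M (Nat.sub (T_ei u) (Nat.mod (T_ei u) M)) (Nat.mod (T_ei u) M) u) (dp_ei_18 j u) (Nat.ble (nat_lit 3) j)
noncomputable def disp_ei (j u : ℕ) : Bool :=
  Bool.rec (motive := fun _ => Bool) (Bool.rec (motive := fun _ => Bool) (lDef P (nat_lit 5) (Nat.mod (T_ei u) M) u) (lDef P (nat_lit 4) u (Nat.mod (T_ei u) M)) (Nat.ble (nat_lit 1) j)) (dp_ei_19 j u) (Nat.ble (nat_lit 2) j)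
noncomputable def chk_ei (j u : ℕ) : Bool :=
  Bool.rec (motive := fun _ => Bool) (disp_ei j u) (Nat.ble (Nat.succ (MG u)) A) (Nat.ble A (T_ei u))
noncomputable def dM_0 (j z1 z2 u : ℕ) : Bool :=
  Bool.rec (motive := fun _ => Bool) (Bool.rec (motive := fun _ => Bool) (mCo MG T_bi M (Nat.sub (MG u) (Nat.mod (MG u) M)) (nat_lit 40) z1 z2 u (Nat.mod (MG u) M)) (mCo MG T_d M (Nat.sub (MG u) (Nat.mod (MG u) M)) (nat_lit 40) z1 z2 u (Nat.mod (MG u) M)) (Nat.ble (nat_lit 1) j)) (Bool.rec (motive := fun _ => Bool) (mCo MG T_di M (Nat.sub (MG u) (Nat.mod (MG u) M)) (nat_lit 40) z1 z2 u (Nat.mod (MG u) M)) (mCo MG T_ei M (Nat.sub (MG u) (Nat.mod (MG u) M)) (nat_lit 40) z1 z2 u (Nat.mod (MG u) M)) (Nat.ble (nat_lit 3) j)) (Nat.ble (nat_lit 2) j)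
noncomputable def dM_1 (j z1 z2 u : ℕ) : Bool :=
  Bool.rec (motive := fun _ => Bool) (mCo MG T_b M (Nat.sub (MG u) (Nat.mod (MG u) M)) (nat_lit 40) z1 z2 u (Nat.mod (MG u) M)) (mCo MG T_e M (Nat.sub (MG u) (Nat.mod (MG u) M)) (nat_lit 40) z1 z2 u (Nat.mod (MG u) M)) (Nat.ble (nat_lit 5) j)
noncomputable def dM_2 (j z1 z2 u : ℕ) : Bool :=
  Bool.rec (motive := fun _ => Bool) (Bool.rec (motive := fun _ => Bool) (Bool.rec (motive := fun _ => Bool) (mRel MG [T_ei, T_b, T_d, T_d, T_bi] [T_d, T_ei] M (Nat.sub (MG u) (Nat.mod (MG u) M)) (nat_lit 40) z1 u (Nat.mod (MG u) M)) (mRel MG [T_bi, T_di, T_b] [T_di, T_bi, T_bi] M (Nat.sub (MG u) (Nat.mod (MG u) M)) (nat_lit 40) z1 u (Nat.mod (MG u) M)) (Nat.ble (nat_lit 7) j)) (Bool.rec (motive := fun _ => Bool) (mRel MG [T_bi, T_e, T_di, T_ei] [T_di, T_di, T_bi] M (Nat.sub (MG u) (Nat.mod (MG u) M)) (nat_lit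 40) z1 u (Nat.mod (MG u) M)) (Bool.rec (motive := fun _ => Bool) (mRel MG [T_e, T_di] [T_b, T_di, T_di, T_bi, T_e] M (Nat.sub (MG u) (Nat.mod (MG u) M)) (nat_lit 40) z1 u (Nat.mod (MG u) M)) (mRel MG [T_ei, T_b, T_di, T_di, T_bi] [T_di, T_ei] M (Nat.sub (MG u) (Nat.mod (MG u) M)) (nat_lit 40) z1 u (Nat.mod (MG u) M)) (Nat.ble (nat_lit 10) j)) (Nat.ble (nat_lit 9) j)) (Nat.ble (nat_lit 8) j)) (Bool.rec (motive := fun _ => Bool) (Bool.rec (motive := fun _ => Bool) (mRel MG [T_ei, T_b, T_di, T_di, T_bi, T_e] [T_di] M (Nat.sub (MG u) (Nat.mod (MG u) M)) (nat_lit 40) z1 u (Nat.mod (MG u) M)) (Bool.rec (motive := fun _ => Bool) (mRel MG [T_bi, T_e, T_d, T_ei] [T_d, T_d, T_bi] M (Nat.sub (MG u) (Nat.mod (MG u) M)) (nat_lit 40) z1 u (Nat.mod (MG u) M)) (mRel MG [T_e, T_d, T_ei] [T_b, T_d, T_d, T_bi] M (Nat.sub (MG u) (Nat.mod (MG u) M)) (nat_lit 40)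 z1 u (Nat.mod (MG u) M)) (Nat.ble (nat_lit 13) j)) (Nat.ble (nat_lit 12) j)) (Bool.rec (motive := fun _ => Bool) (Bool.rec (motive := fun _ => Bool) (mRel MG [T_b, T_d, T_d, T_bi] [T_e, T_d, T_ei] M (Nat.sub (MG u) (Nat.mod (MG u) M)) (nat_lit 40) z1 u (Nat.mod (MG u) M)) (mRel MG [T_b, T_di, T_di, T_bi, T_e] [T_e, T_di] M (Nat.sub (MG u) (Nat.mod (MG u) M)) (nat_lit 40) z1 u (Nat.mod (MG u) M)) (Nat.ble (nat_lit 15) j)) (Bool.rec (motive := fun _ => Bool) (mRel MG [T_d, T_bi, T_e, T_di] [T_di, T_bi, T_e] M (Nat.sub (MG u) (Nat.mod (MG u) M)) (nat_lit 40) z1 u (Nat.mod (MG u) M)) (mRel MG [T_b, T_d, T_bi] [T_bi, T_bi, T_d] M (Nat.sub (MG u) (Nat.mod (MG u) M)) (nat_lit 40) z1 u (Nat.mod (MG u) M)) (Nat.ble (nat_lit 17) j)) (Nat.ble (nat_lit 16) j)) (Nat.ble (nat_lit 14) j)) (Nat.ble (nat_lit 11) j)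
noncomputable def dM_3 (j z1 z2 u : ℕ) : Bool :=
  Bool.rec (motive := fun _ => Bool) (dM_1 j z1 z2 u) (dM_2 j z1 z2 u) (Nat.ble (nat_lit 6) j)
noncomputable def dM_4 (j z1 z2 u : ℕ) : Bool :=
  Bool.rec (motive := fun _ => Bool) (Bool.rec (motive := fun _ => Bool) (Bool.rec (motive := fun _ => Bool) (mRel MG [T_e, T_di, T_ei] [T_b, T_di, T_di, T_bi] M (Nat.sub (MG u) (Nat.mod (MG u) M)) (nat_lit 40) z1 u (Nat.mod (MG u) M)) (Bool.rec (motive := fun _ => Bool) (mRel MG [T_bi, T_bi, T_d] [T_b, T_d, T_bi] M (Nat.sub (MG u) (Nat.mod (MG u) M)) (nat_lit 40) z1 u (Nat.mod (MG u) M)) (mRel MG [T_di, T_bi, T_e] [T_d, T_bi, T_e, T_di] M (Nat.sub (MG u) (Nat.mod (MG u) M)) (nat_lit 40) z1 u (Nat.mod (MG u) M)) (Nat.ble (nat_lit 20) j)) (Nat.ble (nat_lit 19) j)) (Bool.rec (motive := fun _ => Bool) (mRel MG [T_d, T_b, T_di, T_bi] [T_b, T_b] M (Nat.sub (MG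 u) (Nat.mod (MG u) M)) (nat_lit 40) z1 u (Nat.mod (MG u) M)) (Bool.rec (motive := fun _ => Bool) (mRel MG [T_bi, T_bi] [T_b, T_d, T_bi, T_di] M (Nat.sub (MG u) (Nat.mod (MG u) M)) (nat_lit 40) z1 u (Nat.mod (MG u) M)) (mRel MG [T_e, T_d] [T_b, T_d, T_d, T_bi, T_e] M (Nat.sub (MG u) (Nat.mod (MG u) M)) (nat_lit 40) z1 u (Nat.mod (MG u) M)) (Nat.ble (nat_lit 23) j)) (Nat.ble (nat_lit 22) j)) (Nat.ble (nat_lit 21) j)) (Bool.rec (motive := fun _ => Bool) (Bool.rec (motive := fun _ => Bool) (mRel MG [T_d, T_d, T_bi, T_e] [T_bi, T_e, T_d] M (Nat.sub (MG u) (Nat.mod (MG u) M)) (nat_lit 40) z1 u (Nat.mod (MG u) M)) (Bool.rec (motive := fun _ => Bool) (mRel MG [T_bi, T_e, T_d] [T_d, T_d, T_bi, T_e] M (Nat.sub (MG u) (Nat.mod (MG u) M)) (nat_lit 40) z1 u (Nat.mod (MG u) M)) (mRel MG [T_d, T_d, T_bi, T_e, T_di] [T_bi, T_e] M (Nat.sub (MG u) (Nat.mod (MG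 u) M)) (nat_lit 40) z1 u (Nat.mod (MG u) M)) (Nat.ble (nat_lit 26) j)) (Nat.ble (nat_lit 25) j)) (Bool.rec (motive := fun _ => Bool) (mRel MG [T_bi, T_d, T_b, T_di] [T_b, T_b] M (Nat.sub (MG u) (Nat.mod (MG u) M)) (nat_lit 40) z1 u (Nat.mod (MG u) M)) (Bool.rec (motive := fun _ => Bool) (mRel MG [T_ei, T_b, T_d, T_d, T_bi, T_e] [T_d] M (Nat.sub (MG u) (Nat.mod (MG u) M)) (nat_lit 40) z1 u (Nat.mod (MG u) M)) (mRel MG [T_b, T_di, T_di, T_bi] [T_e, T_di, T_ei] M (Nat.sub (MG u) (Nat.mod (MG u) M)) (nat_lit 40) z1 u (Nat.mod (MG u) M)) (Nat.ble (nat_lit 29) j)) (Nat.ble (nat_lit 28) j)) (Nat.ble (nat_lit 27) j)) (Nat.ble (nat_lit 24) j)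
noncomputable def dM_5 (j z1 z2 u : ℕ) : Bool :=
  Bool.rec (motive := fun _ => Bool) (Bool.rec (motive := fun _ => Bool) (Bool.rec (motive := fun _ => Bool) (mRel MG [T_bi, T_bi, T_bi, T_d, T_b] [T_d] M (Nat.sub (MG u) (Nat.mod (MG u) M)) (nat_lit 40) z1 u (Nat.mod (MG u) M)) (mRel MG [T_bi, T_di, T_b, T_b] [T_di, T_bi] M (Nat.sub (MG u) (Nat.mod (MG u) M)) (nat_lit 40) z1 u (Nat.mod (MG u) M)) (Nat.ble (nat_lit 31) j)) (Bool.rec (motive := fun _ => Bool) (mRel MG [T_di, T_b, T_b] [T_b, T_di, T_bi] M (Nat.sub (MG u) (Nat.mod (MG u) M)) (nat_lit 40) z1 u (Nat.mod (MG u) M)) (mRel MG [T_di, T_bi] [T_bi, T_di, T_b, T_b] M (Nat.sub (MG u) (Nat.mod (MG u) M)) (nat_lit 40) z1 u (Nat.mod (MG u) M)) (Nat.ble (nat_lit 33) j)) (Nat.ble (nat_lit 32) j)) (Bool.rec (motive := fun _ => Bool) (Bool.rec (motive := fun _ => Bool) (mRel MG [T_di, T_bi] [T_d,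 T_bi, T_e, T_di, T_ei] M (Nat.sub (MG u) (Nat.mod (MG u) M)) (nat_lit 40) z1 u (Nat.mod (MG u) M)) (mRel MG [T_ei, T_di, T_bi, T_e, T_e, T_d, T_b, T_di] [T_di, T_bi, T_e, T_e] M (Nat.sub (MG u) (Nat.mod (MG u) M)) (nat_lit 40) z1 u (Nat.mod (MG u) M)) (Nat.ble (nat_lit 35) j)) (Bool.rec (motive := fun _ => Bool) (mRel MG [T_d, T_d] [T_di, T_di, T_di] M (Nat.sub (MG u) (Nat.mod (MG u) M)) (nat_lit 40) z1 u (Nat.mod (MG u) M)) (mRel MG [T_b, T_d, T_d, T_bi, T_e] [T_e, T_d] M (Nat.sub (MG u) (Nat.mod (MG u) M)) (nat_lit 40) z1 u (Nat.mod (MG u) M)) (Nat.ble (nat_lit 37) j)) (Nat.ble (nat_lit 36) j)) (Nat.ble (nat_lit 34) j)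
noncomputable def dM_6 (j z1 z2 u : ℕ) : Bool :=
  Bool.rec (motive := fun _ => Bool) (Bool.rec (motive := fun _ => Bool) (Bool.rec (motive := fun _ => Bool) (mRel MG [T_di, T_di, T_bi, T_e, T_d, T_ei] [T_bi] M (Nat.sub (MG u) (Nat.mod (MG u) M)) (nat_lit 40) z1 u (Nat.mod (MG u) M)) (mRel MG [T_bi, T_e, T_di, T_ei, T_b] [T_di, T_di] M (Nat.sub (MG u) (Nat.mod (MG u) M)) (nat_lit 40) z1 u (Nat.mod (MG u) M)) (Nat.ble (nat_lit 39) j)) (Bool.rec (motive := fun _ => Bool) (mRel MG [T_di, T_di, T_bi, T_e, T_d] [T_bi, T_e] M (Nat.sub (MG u) (Nat.mod (MG u) M)) (nat_lit 40) z1 u (Nat.mod (MG u) M)) (mRel MG [T_d, T_bi, T_e] [T_di, T_bi, T_e, T_d] M (Nat.sub (MG u) (Nat.mod (MG u) M)) (nat_lit 40) z1 u (Nat.mod (MG u) M)) (Nat.ble (nat_lit 41) j)) (Nat.ble (nat_lit 40) j)) (Bool.rec (motive := fun _ => Bool) (Bool.rec (motive := fun _ => Bool) (mRel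 MG [T_bi, T_e] [T_di, T_di, T_bi, T_e, T_d] M (Nat.sub (MG u) (Nat.mod (MG u) M)) (nat_lit 40) z1 u (Nat.mod (MG u) M)) (mRel MG [T_bi, T_e, T_di] [T_di, T_di, T_bi, T_e] M (Nat.sub (MG u) (Nat.mod (MG u) M)) (nat_lit 40) z1 u (Nat.mod (MG u) M)) (Nat.ble (nat_lit 43) j)) (Bool.rec (motive := fun _ => Bool) (mRel MG [T_bi, T_bi, T_bi, T_d] [T_d, T_bi] M (Nat.sub (MG u) (Nat.mod (MG u) M)) (nat_lit 40) z1 u (Nat.mod (MG u) M)) (Bool.rec (motive := fun _ => Bool) (mRel MG [T_b, T_di, T_di] [T_di, T_di, T_bi, T_bi] M (Nat.sub (MG u) (Nat.mod (MG u) M)) (nat_lit 40) z1 u (Nat.mod (MG u) M)) (mRel MG [T_ei, T_b] [T_di, T_ei, T_b, T_d, T_d] M (Nat.sub (MG u) (Nat.mod (MG u) M)) (nat_lit 40) z1 u (Nat.mod (MG u) M)) (Nat.ble (nat_lit 46) j)) (Nat.ble (nat_lit 45) j)) (Nat.ble (nat_lit 44) j)) (Nat.ble (nat_lit 42) j)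
noncomputable def dM_7 (j z1 z2 u : ℕ) : Bool :=
  Bool.rec (motive := fun _ => Bool) (dM_5 j z1 z2 u) (dM_6 j z1 z2 u) (Nat.ble (nat_lit 38) j)
noncomputable def dM_8 (j z1 z2 u : ℕ) : Bool :=
  Bool.rec (motive := fun _ => Bool) (dM_4 j z1 z2 u) (dM_7 j z1 z2 u) (Nat.ble (nat_lit 30) j)
noncomputable def dM_9 (j z1 z2 u : ℕ) : Bool :=
  Bool.rec (motive := fun _ => Bool) (Bool.rec (motive := fun _ => Bool) (mRel MG [T_d, T_bi] [T_di, T_bi, T_e, T_d, T_ei] M (Nat.sub (MG u) (Nat.mod (MG u) M)) (nat_lit 40) z1 u (Nat.mod (MG u) M)) (mRel MG [T_e, T_di, T_ei, T_b] [T_b, T_di, T_di] M (Nat.sub (MG u) (Nat.mod (MG u) M)) (nat_lit 40) z1 u (Nat.mod (MG u) M)) (Nat.ble (nat_lit 48) j)) (Bool.rec (motive := fun _ => Bool) (mRel MG [T_bi, T_bi, T_bi] [T_d, T_bi, T_di] M (Nat.sub (MG u) (Nat.mod (MG u) M)) (nat_lit 40) z1 u (Nat.mod (MG u) M)) (Bool.rec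 (motive := fun _ => Bool) (mRel MG [T_di] [T_bi, T_di, T_ei, T_ei, T_b, T_d, T_e, T_di, T_bi, T_e, T_e] M (Nat.sub (MG u) (Nat.mod (MG u) M)) (nat_lit 40) z1 u (Nat.mod (MG u) M)) (mRel MG [T_di, T_b, T_b, T_b, T_d] [T_b] M (Nat.sub (MG u) (Nat.mod (MG u) M)) (nat_lit 40) z1 u (Nat.mod (MG u) M)) (Nat.ble (nat_lit 51) j)) (Nat.ble (nat_lit 50) j)) (Nat.ble (nat_lit 49) j)
noncomputable def dM_10 (j z1 z2 u : ℕ) : Bool :=
  Bool.rec (motive := fun _ => Bool) (Bool.rec (motive := fun _ => Bool) (Bool.rec (motive := fun _ => Bool) (mRel MG [T_e, T_d, T_b, T_e, T_di, T_b] [T_d, T_b, T_e, T_di, T_b, T_e] M (Nat.sub (MG u) (Nat.mod (MG u) M)) (nat_lit 40) z1 u (Nat.mod (MG u) M)) (mRel MG [T_b, T_d, T_ei, T_di, T_bi, T_e, T_e] [T_e, T_e, T_d, T_bi, T_di] M (Nat.sub (MG u) (Nat.mod (MG u) M)) (nat_lit 40) z1 u (Nat.mod (MG u) M)) (Nat.ble (nat_lit 53)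 j)) (Bool.rec (motive := fun _ => Bool) (mRel MG [T_bi, T_e, T_e, T_d, T_bi, T_di, T_ei, T_ei] [T_d, T_ei, T_di, T_bi] M (Nat.sub (MG u) (Nat.mod (MG u) M)) (nat_lit 40) z1 u (Nat.mod (MG u) M)) (mRel MG [T_d, T_d, T_d] [T_di, T_di] M (Nat.sub (MG u) (Nat.mod (MG u) M)) (nat_lit 40) z1 u (Nat.mod (MG u) M)) (Nat.ble (nat_lit 55) j)) (Nat.ble (nat_lit 54) j)) (Bool.rec (motive := fun _ => Bool) (Bool.rec (motive := fun _ => Bool) (mRel MG [T_bi, T_d, T_ei, T_bi, T_di, T_ei, T_d, T_b, T_e, T_di, T_b] [T_ei] M (Nat.sub (MG u) (Nat.mod (MG u) M)) (nat_lit 40) z1 u (Nat.mod (MG u) M)) (mRel MG [T_bi, T_e, T_e, T_d, T_b, T_di, T_ei, T_ei, T_b, T_d, T_ei] [T_d] M (Nat.sub (MG u) (Nat.mod (MG u) M)) (nat_lit 40) z1 u (Nat.mod (MG u) M)) (Nat.ble (nat_lit 57) j)) (Bool.rec (motive := fun _ => Bool) (mRel MG [T_di, T_b, T_ei, T_bi, T_d, T_ei, T_bi, T_di,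 T_e, T_d] [T_ei, T_bi] M (Nat.sub (MG u) (Nat.mod (MG u) M)) (nat_lit 40) z1 u (Nat.mod (MG u) M)) (Bool.rec (motive := fun _ => Bool) (mRel MG [T_d, T_d, T_bi] [T_b, T_b, T_d, T_d] M (Nat.sub (MG u) (Nat.mod (MG u) M)) (nat_lit 40) z1 u (Nat.mod (MG u) M)) (mRel MG [T_bi, T_di] [T_di, T_bi, T_bi, T_bi] M (Nat.sub (MG u) (Nat.mod (MG u) M)) (nat_lit 40) z1 u (Nat.mod (MG u) M)) (Nat.ble (nat_lit 60) j)) (Nat.ble (nat_lit 59) j)) (Nat.ble (nat_lit 58) j)) (Nat.ble (nat_lit 56) j)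
noncomputable def dM_11 (j z1 z2 u : ℕ) : Bool :=
  Bool.rec (motive := fun _ => Bool) (dM_9 j z1 z2 u) (dM_10 j z1 z2 u) (Nat.ble (nat_lit 52) j)
noncomputable def dM_12 (j z1 z2 u : ℕ) : Bool :=
  Bool.rec (motive := fun _ => Bool) (Bool.rec (motive := fun _ => Bool) (Bool.rec (motive := fun _ => Bool) (mRel MG [T_bi, T_di, T_di, T_bi, T_bi] [T_di, T_di] M (Nat.sub (MG u) (Nat.mod (MG u) M)) (nat_lit 40) z1 u (Nat.mod (MG u) M)) (mRel MG [T_bi, T_d, T_ei, T_bi, T_di, T_ei] [T_ei, T_bi, T_d, T_ei, T_bi, T_di] M (Nat.sub (MG u) (Nat.mod (MG u) M)) (nat_lit 40) z1 u (Nat.mod (MG u) M)) (Nat.ble (nat_lit 62) j)) (Bool.rec (motive := fun _ => Bool) (mRel MG [T_e, T_di, T_b] [T_bi, T_di, T_e, T_d, T_b, T_e, T_di, T_b, T_ei] M (Nat.sub (MG u) (Nat.mod (MG u) M)) (nat_lit 40) z1 u (Nat.mod (MG u) M)) (mRel MG [T_bi, T_d, T_d, T_bi] [T_b, T_d, T_d]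 M (Nat.sub (MG u) (Nat.mod (MG u) M)) (nat_lit 40) z1 u (Nat.mod (MG u) M)) (Nat.ble (nat_lit 64) j)) (Nat.ble (nat_lit 63) j)) (Bool.rec (motive := fun _ => Bool) (Bool.rec (motive := fun _ => Bool) (mRel MG [T_e] [T_bi, T_d, T_ei, T_bi, T_di, T_e, T_d, T_b, T_e, T_di, T_b] M (Nat.sub (MG u) (Nat.mod (MG u) M)) (nat_lit 40) z1 u (Nat.mod (MG u) M)) (mRel MG [T_e, T_e, T_d, T_b, T_di, T_ei, T_ei] [T_b, T_d, T_e, T_di, T_bi] M (Nat.sub (MG u) (Nat.mod (MG u) M)) (nat_lit 40) z1 u (Nat.mod (MG u) M)) (Nat.ble (nat_lit 66) j)) (Bool.rec (motive := fun _ => Bool) (mRel MG [T_ei, T_d, T_b, T_e, T_di, T_b, T_e] [T_d, T_b, T_e, T_di, T_b] M (Nat.sub (MG u) (Nat.mod (MG u) M)) (nat_lit 40) z1 u (Nat.mod (MG u) M)) (Bool.rec (motive := fun _ => Bool) (mRel MG [T_di, T_bi, T_bi, T_bi, T_d] [T_bi] M (Nat.sub (MG u) (Nat.mod (MG u) M)) (nat_lit 40) z1 u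 (Nat.mod (MG u) M)) (mRel MG [T_d, T_ei, T_b, T_di, T_di, T_bi, T_e] [] M (Nat.sub (MG u) (Nat.mod (MG u) M)) (nat_lit 40) z1 u (Nat.mod (MG u) M)) (Nat.ble (nat_lit 69) j)) (Nat.ble (nat_lit 68) j)) (Nat.ble (nat_lit 67) j)) (Nat.ble (nat_lit 65) j)
noncomputable def dM_13 (j z1 z2 u : ℕ) : Bool :=
  Bool.rec (motive := fun _ => Bool) (Bool.rec (motive := fun _ => Bool) (Bool.rec (motive := fun _ => Bool) (mRel MG [T_di] [T_d, T_d, T_d, T_d] M (Nat.sub (MG u) (Nat.mod (MG u) M)) (nat_lit 40) z1 u (Nat.mod (MG u) M)) (mRel MG [T_e, T_d, T_bi, T_di, T_ei, T_ei] [T_ei, T_b, T_d, T_ei, T_di, T_bi] M (Nat.sub (MG u) (Nat.mod (MG u) M)) (nat_lit 40) z1 u (Nat.mod (MG u) M)) (Nat.ble (nat_lit 71) j)) (Bool.rec (motive := fun _ => Bool) (mRel MG [T_bi, T_d, T_ei, T_bi, T_di] [T_e, T_bi, T_d, T_ei, T_bi, T_di, T_ei] M (Nat.sub (MG u) (Nat.mod (MG u)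 M)) (nat_lit 40) z1 u (Nat.mod (MG u) M)) (mRel MG [T_e, T_e, T_d, T_bi, T_di, T_ei] [T_b, T_d, T_ei, T_di, T_bi, T_e] M (Nat.sub (MG u) (Nat.mod (MG u) M)) (nat_lit 40) z1 u (Nat.mod (MG u) M)) (Nat.ble (nat_lit 73) j)) (Nat.ble (nat_lit 72) j)) (Bool.rec (motive := fun _ => Bool) (Bool.rec (motive := fun _ => Bool) (mRel MG [T_b, T_b] [T_bi, T_d, T_b, T_di] M (Nat.sub (MG u) (Nat.mod (MG u) M)) (nat_lit 40) z1 u (Nat.mod (MG u) M)) (mRel MG [T_ei, T_di, T_bi, T_e, T_e, T_d] [T_di, T_bi, T_e, T_e, T_d, T_bi] M (Nat.sub (MG u) (Nat.mod (MG u) M)) (nat_lit 40) z1 u (Nat.mod (MG u) M)) (Nat.ble (nat_lit 75) j)) (Bool.rec (motive := fun _ => Bool) (mRel MG [T_b, T_di] [T_di, T_b, T_b, T_b] M (Nat.sub (MG u) (Nat.mod (MG u) M)) (nat_lit 40) z1 u (Nat.mod (MG u) M)) (Bool.rec (motive := fun _ => Bool) (mRel MG [T_d, T_e, T_di, T_bi, T_e, T_e] [T_bi,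 T_e, T_e, T_d, T_b, T_di] M (Nat.sub (MG u) (Nat.mod (MG u) M)) (nat_lit 40) z1 u (Nat.mod (MG u) M)) (mRel MG [T_b, T_d, T_e, T_di, T_bi] [T_e, T_e, T_d, T_b, T_di, T_ei, T_ei] M (Nat.sub (MG u) (Nat.mod (MG u) M)) (nat_lit 40) z1 u (Nat.mod (MG u) M)) (Nat.ble (nat_lit 78) j)) (Nat.ble (nat_lit 77) j)) (Nat.ble (nat_lit 76) j)) (Nat.ble (nat_lit 74) j)
noncomputable def dM_14 (j z1 z2 u : ℕ) : Bool :=
  Bool.rec (motive := fun _ => Bool) (dM_12 j z1 z2 u) (dM_13 j z1 z2 u) (Nat.ble (nat_lit 70) j)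
noncomputable def dM_15 (j z1 z2 u : ℕ) : Bool :=
  Bool.rec (motive := fun _ => Bool) (dM_11 j z1 z2 u) (dM_14 j z1 z2 u) (Nat.ble (nat_lit 61) j)
noncomputable def dM_16 (j z1 z2 u : ℕ) : Bool :=
  Bool.rec (motive := fun _ => Bool) (Bool.rec (motive := fun _ => Bool) (Bool.rec (motive := fun _ => Bool) (mRel MG [T_d] [T_ei, T_b, T_d, T_d, T_bi, T_e] M (Nat.sub (MG u) (Nat.mod (MG u) M)) (nat_lit 40) z1 u (Nat.mod (MG u) M)) (mRel MG [T_b, T_e, T_bi, T_d, T_ei] [T_d, T_ei, T_bi, T_di, T_e, T_d, T_b] M (Nat.sub (MG u) (Nat.mod (MG u) M)) (nat_lit 40) z1 u (Nat.mod (MG u) M)) (Nat.ble (nat_lit 80) j)) (Bool.rec (motive := fun _ => Bool) (mRel MG [T_di, T_bi, T_bi, T_d, T_d, T_bi] [T_d] M (Nat.sub (MG u) (Nat.mod (MG u) M)) (nat_lit 40) z1 u (Nat.mod (MG u) M)) (mRel MG [T_e, T_d, T_b, T_e, T_di, T_b, T_ei, T_bi, T_d] [T_d, T_b, T_e] M (Nat.sub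 (MG u) (Nat.mod (MG u) M)) (nat_lit 40) z1 u (Nat.mod (MG u) M)) (Nat.ble (nat_lit 82) j)) (Nat.ble (nat_lit 81) j)) (Bool.rec (motive := fun _ => Bool) (Bool.rec (motive := fun _ => Bool) (mRel MG [T_di, T_b, T_ei, T_bi, T_d] [T_ei, T_bi, T_di, T_ei, T_d, T_b, T_e] M (Nat.sub (MG u) (Nat.mod (MG u) M)) (nat_lit 40) z1 u (Nat.mod (MG u) M)) (mRel MG [T_bi, T_di, T_e, T_d, T_b, T_e, T_di, T_b] [T_e, T_di, T_b, T_e] M (Nat.sub (MG u) (Nat.mod (MG u) M)) (nat_lit 40) z1 u (Nat.mod (MG u) M)) (Nat.ble (nat_lit 84) j)) (Bool.rec (motive := fun _ => Bool) (mRel MG [T_b, T_d, T_d, T_bi, T_e, T_di] [T_e] M (Nat.sub (MG u) (Nat.mod (MG u) M)) (nat_lit 40) z1 u (Nat.mod (MG u) M)) (Bool.rec (motive := fun _ => Bool) (mRel MG [T_e, T_d, T_ei, T_b] [T_b, T_d, T_d] M (Nat.sub (MG u) (Nat.mod (MG u) M)) (nat_lit 40) z1 u (Nat.mod (MG u) M)) (mRel MG [T_d,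 T_bi, T_di] [T_di, T_b, T_b, T_d] M (Nat.sub (MG u) (Nat.mod (MG u) M)) (nat_lit 40) z1 u (Nat.mod (MG u) M)) (Nat.ble (nat_lit 87) j)) (Nat.ble (nat_lit 86) j)) (Nat.ble (nat_lit 85) j)) (Nat.ble (nat_lit 83) j)
noncomputable def dM_17 (j z1 z2 u : ℕ) : Bool :=
  Bool.rec (motive := fun _ => Bool) (Bool.rec (motive := fun _ => Bool) (Bool.rec (motive := fun _ => Bool) (mRel MG [T_d, T_bi, T_e, T_di, T_ei, T_b] [T_di] M (Nat.sub (MG u) (Nat.mod (MG u) M)) (nat_lit 40) z1 u (Nat.mod (MG u) M)) (mRel MG [T_d, T_d, T_b, T_di] [T_bi, T_bi, T_d] M (Nat.sub (MG u) (Nat.mod (MG u) M)) (nat_lit 40) z1 u (Nat.mod (MG u) M)) (Nat.ble (nat_lit 89) j)) (Bool.rec (motive := fun _ => Bool) (mRel MG [T_di, T_di] [T_d, T_d, T_d] M (Nat.sub (MG u) (Nat.mod (MG u) M)) (nat_lit 40) z1 u (Nat.mod (MG u) M)) (mRel MG [T_b, T_b, T_d] [T_bi, T_d, T_b] M (Nat.sub (MG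 u) (Nat.mod (MG u) M)) (nat_lit 40) z1 u (Nat.mod (MG u) M)) (Nat.ble (nat_lit 91) j)) (Nat.ble (nat_lit 90) j)) (Bool.rec (motive := fun _ => Bool) (Bool.rec (motive := fun _ => Bool) (mRel MG [T_b, T_e, T_di, T_b, T_ei, T_bi, T_d, T_ei] [T_di, T_ei, T_d, T_b] M (Nat.sub (MG u) (Nat.mod (MG u) M)) (nat_lit 40) z1 u (Nat.mod (MG u) M)) (mRel MG [T_d, T_bi, T_di, T_di, T_bi] [T_di, T_b] M (Nat.sub (MG u) (Nat.mod (MG u) M)) (nat_lit 40) z1 u (Nat.mod (MG u) M)) (Nat.ble (nat_lit 93) j)) (Bool.rec (motive := fun _ => Bool) (mRel MG [T_ei, T_b, T_d, T_e, T_di, T_bi] [T_e, T_d, T_b, T_di, T_ei, T_ei] M (Nat.sub (MG u) (Nat.mod (MG u) M)) (nat_lit 40) z1 u (Nat.mod (MG u) M)) (Bool.rec (motive := fun _ => Bool) (mRel MG [T_d, T_d, T_bi] [T_bi, T_e, T_d, T_ei] M (Nat.sub (MG u) (Nat.mod (MG u) M)) (nat_lit 40) z1 u (Nat.mod (MG u) M)) (mRel MG [T_b,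 T_di, T_di, T_b] [T_di, T_di, T_bi] M (Nat.sub (MG u) (Nat.mod (MG u) M)) (nat_lit 40) z1 u (Nat.mod (MG u) M)) (Nat.ble (nat_lit 96) j)) (Nat.ble (nat_lit 95) j)) (Nat.ble (nat_lit 94) j)) (Nat.ble (nat_lit 92) j)
noncomputable def dM_18 (j z1 z2 u : ℕ) : Bool :=
  Bool.rec (motive := fun _ => Bool) (dM_16 j z1 z2 u) (dM_17 j z1 z2 u) (Nat.ble (nat_lit 88) j)
noncomputable def dM_19 (j z1 z2 u : ℕ) : Bool :=
  Bool.rec (motive := fun _ => Bool) (Bool.rec (motive := fun _ => Bool) (Bool.rec (motive := fun _ => Bool) (mRel MG [T_b, T_b, T_b, T_d, T_bi] [T_d] M (Nat.sub (MG u) (Nat.mod (MG u) M)) (nat_lit 40) z1 u (Nat.mod (MG u) M)) (mRel MG [T_ei, T_bi] [T_bi, T_d, T_ei, T_bi, T_di, T_ei, T_d, T_b, T_e, T_di] M (Nat.sub (MG u) (Nat.mod (MG u) M)) (nat_lit 40) z1 u (Nat.mod (MG u) M)) (Nat.ble (nat_lit 98) j)) (Bool.rec (motive := fun _ => Bool)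 (mRel MG [T_d, T_bi, T_di] [T_bi, T_bi, T_bi] M (Nat.sub (MG u) (Nat.mod (MG u) M)) (nat_lit 40) z1 u (Nat.mod (MG u) M)) (mRel MG [T_e, T_di, T_b, T_ei, T_bi, T_d] [T_bi, T_di, T_ei, T_d, T_b, T_e] M (Nat.sub (MG u) (Nat.mod (MG u) M)) (nat_lit 40) z1 u (Nat.mod (MG u) M)) (Nat.ble (nat_lit 100) j)) (Nat.ble (nat_lit 99) j)) (Bool.rec (motive := fun _ => Bool) (Bool.rec (motive := fun _ => Bool) (mRel MG [T_bi] [T_di, T_di, T_bi, T_e, T_d, T_ei] M (Nat.sub (MG u) (Nat.mod (MG u) M)) (nat_lit 40) z1 u (Nat.mod (MG u) M)) (mRel MG [T_b, T_ei] [T_d, T_ei, T_bi, T_di, T_ei, T_d, T_b, T_e, T_di, T_b] M (Nat.sub (MG u) (Nat.mod (MG u) M)) (nat_lit 40) z1 u (Nat.mod (MG u) M)) (Nat.ble (nat_lit 102) j)) (Bool.rec (motive := fun _ => Bool) (mRel MG [T_bi] [T_d, T_d, T_bi, T_e, T_di, T_ei] M (Nat.sub (MG u) (Nat.mod (MG u) M)) (nat_lit 40) z1 u (Nat.mod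 (MG u) M)) (Bool.rec (motive := fun _ => Bool) (mRel MG [T_di, T_di, T_bi] [T_bi, T_e, T_di, T_ei] M (Nat.sub (MG u) (Nat.mod (MG u) M)) (nat_lit 40) z1 u (Nat.mod (MG u) M)) (mRel MG [T_b, T_e, T_di, T_b, T_e] [T_di, T_e, T_d, T_b, T_e, T_di, T_b] M (Nat.sub (MG u) (Nat.mod (MG u) M)) (nat_lit 40) z1 u (Nat.mod (MG u) M)) (Nat.ble (nat_lit 105) j)) (Nat.ble (nat_lit 104) j)) (Nat.ble (nat_lit 103) j)) (Nat.ble (nat_lit 101) j)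
noncomputable def dM_20 (j z1 z2 u : ℕ) : Bool :=
  Bool.rec (motive := fun _ => Bool) (Bool.rec (motive := fun _ => Bool) (Bool.rec (motive := fun _ => Bool) (mRel MG [T_d, T_bi] [T_bi, T_bi, T_bi, T_d] M (Nat.sub (MG u) (Nat.mod (MG u) M)) (nat_lit 40) z1 u (Nat.mod (MG u) M)) (mRel MG [T_di, T_bi, T_e, T_d, T_ei] [T_d, T_bi] M (Nat.sub (MG u) (Nat.mod (MG u) M)) (nat_lit 40) z1 u (Nat.mod (MG u) M)) (Nat.ble (nat_lit 107) j)) (Bool.rec (motive := fun _ => Bool) (mRel MG [T_di, T_bi, T_bi] [T_bi, T_di, T_b] M (Nat.sub (MG u) (Nat.mod (MG u) M)) (nat_lit 40) z1 u (Nat.mod (MG u) M)) (mRel MG [T_e, T_d, T_bi, T_di, T_ei] [T_ei, T_b, T_d, T_ei, T_di, T_bi, T_e] M (Nat.sub (MG u) (Nat.mod (MG u) M)) (nat_lit 40) z1 u (Nat.mod (MG u) M)) (Nat.ble (nat_lit 109) j)) (Nat.ble (nat_lit 108) j)) (Bool.rec (motive := fun _ => Bool) (Bool.rec (motive :=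 fun _ => Bool) (mRel MG [T_di, T_bi, T_e, T_d] [T_d, T_bi, T_e] M (Nat.sub (MG u) (Nat.mod (MG u) M)) (nat_lit 40) z1 u (Nat.mod (MG u) M)) (mRel MG [T_di, T_b] [T_b, T_di, T_bi, T_bi] M (Nat.sub (MG u) (Nat.mod (MG u) M)) (nat_lit 40) z1 u (Nat.mod (MG u) M)) (Nat.ble (nat_lit 111) j)) (Bool.rec (motive := fun _ => Bool) (mRel MG [T_di, T_b, T_b, T_d, T_d] [T_d, T_bi] M (Nat.sub (MG u) (Nat.mod (MG u) M)) (nat_lit 40) z1 u (Nat.mod (MG u) M)) (Bool.rec (motive := fun _ => Bool) (mRel MG [T_bi, T_d, T_b, T_di, T_bi] [T_b] M (Nat.sub (MG u) (Nat.mod (MG u) M)) (nat_lit 40) z1 u (Nat.mod (MG u) M)) (mRel MG [T_di, T_di] [T_bi, T_e, T_di, T_ei, T_b] M (Nat.sub (MG u) (Nat.mod (MG u) M)) (nat_lit 40) z1 u (Nat.mod (MG u) M)) (Nat.ble (nat_lit 114) j)) (Nat.ble (nat_lit 113) j)) (Nat.ble (nat_lit 112) j)) (Nat.ble (nat_lit 110) j)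
noncomputable def dM_21 (j z1 z2 u : ℕ) : Bool :=
  Bool.rec (motive := fun _ => Bool) (dM_19 j z1 z2 u) (dM_20 j z1 z2 u) (Nat.ble (nat_lit 106) j)
noncomputable def dM_22 (j z1 z2 u : ℕ) : Bool :=
  Bool.rec (motive := fun _ => Bool) (dM_18 j z1 z2 u) (dM_21 j z1 z2 u) (Nat.ble (nat_lit 97) j)
noncomputable def dM_23 (j z1 z2 u : ℕ) : Bool :=
  Bool.rec (motive := fun _ => Bool) (dM_15 j z1 z2 u) (dM_22 j z1 z2 u) (Nat.ble (nat_lit 79) j)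
noncomputable def dM_24 (j z1 z2 u : ℕ) : Bool :=
  Bool.rec (motive := fun _ => Bool) (dM_8 j z1 z2 u) (dM_23 j z1 z2 u) (Nat.ble (nat_lit 47) j)
noncomputable def dM_25 (j z1 z2 u : ℕ) : Bool :=
  Bool.rec (motive := fun _ => Bool) (dM_3 j z1 z2 u) (dM_24 j z1 z2 u) (Nat.ble (nat_lit 18) j)
noncomputable def dM_26 (j z1 z2 u : ℕ) : Bool :=
  Bool.rec (motive := fun _ => Bool) (dM_0 j z1 z2 u) (dM_25 j z1 z2 u) (Nat.ble (nat_lit 4) j)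
noncomputable def chkM (u : ℕ) : Bool :=
  Bool.rec (motive := fun _ => Bool) (band (Nat.ble (Nat.succ (Nat.mod (MG u) M)) u) (dM_26 (Nat.land (MR u) (nat_lit 127)) (Nat.land (Nat.shiftRight (MR u) (nat_lit 7)) (nat_lit 2047)) (Nat.shiftRight (MR u) (nat_lit 18)) u)) true (Nat.ble A (MG u))
noncomputable def chkN (u : ℕ) : Bool :=
  band (chk_b (Nat.land (Nat.shiftRight (RS u) (nat_lit 0)) (nat_lit 63)) u) (band (chk_bi (Nat.land (Nat.shiftRight (RS u) (nat_lit 6)) (nat_lit 63)) u) (band (chk_d (Nat.land (Nat.shiftRight (RS u) (nat_lit 12)) (nat_lit 63)) u) (band (chk_di (Nat.land (Nat.shiftRight (RS u) (nat_lit 18)) (nat_lit 63)) u) (band (chk_e (Nat.land (Nat.shiftRight (RS u) (nat_lit 24)) (nat_lit 63)) u) (band (chk_ei (Nat.land (Nat.shiftRight (RS u) (nat_lit 30)) (nat_lit 63)) u) (chkM u))))))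
noncomputable def chkP (u : ℕ) : Bool := Bool.rec (motive := fun _ => Bool) (chkN u) true (Nat.ble M u)
noncomputable def liveP (u : ℕ) : Bool := Bool.rec (motive := fun _ => Bool) (Nat.ble A (MG u)) false (Nat.ble M u)
end H35.TCM11A
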